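/-
Decomposition of an endomorphism of a finite-dimensional vector space into cyclic blocks (primary rational
canonical form), derived from the structure theorem of finitely generated torsion modules over `F[X]`.

* `exists_cyclic` : `V = ⨁ F[T] v_i`, `F[T] v_i ≅ F[X] / (g_i)`, `g_i` a power of a monic irreducible polynomial.
* `exists_blocks` : the vectors `T^j v_i` (`j < deg g_i`) form a basis.
-/
import Mathlib
set_option linter.all false

set_option autoImplicit false

namespace Cfsg.Agent.H953

open Polynomial

universe u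

variable {F : Type u} [Field F] {V : Type*} [AddCommGroup V] [Module F V] [FiniteDimensional F V]

/-- Every endomorphism `T` of a finite-dimensional space is a direct sum of cyclic blocks `F[X] / (g i)`, where
`g i` is a power of a monic irreducible polynomial. -/
theorem exists_cyclic_aux (T : Module.End F V) :
    ∃ (ι : Type u) (_ : Fintype ι) (g : ι → F[X]) (v : ι → V),
      (∀ i, ∃ (q : F[X]) (e : ℕ), q.Monic ∧ Irreducible q ∧ g i = q ^ e) ∧
      (∀ m : V, ∃ f : ι → F[X], m = ∑ i, aeval T (f i) (v i)) ∧
      (∀ f : ι → F[X], ∑ i, aeval T (f i) (v i) = 0 ↔ ∀ i, g i ∣ f i) := by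
  classical
  have htors : Module.IsTorsion F[X] (Module.AEval' T) :=
    Module.AEval.isTorsion_of_finiteDimensional F V T
  obtain ⟨ι, hι, p, hp, e, ⟨E⟩⟩ := Module.equiv_directSum_of_isTorsion htors
  have hval : ∀ (f : F[X]) (m : V), f • Module.AEval'.of T m = Module.AEval'.of T (aeval T f m) := by
    intro f m
    exact (Module.AEval.of_aeval_smul (R := F) (M := V) T f m).symm
  set u : ι → Module.AEval' T := fun i => E.symm (DirectSum.lof F[X] ι _ i (Submodule.Quotient.mk 1)) with hu
  set v : ι → V := fun i => (Module.AEval'.of T).symm (u i) with hv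
  have huv : ∀ i, u i = Module.AEval'.of T (v i) := by
    intro i; simp [hv]
  have h1 : ∀ (f : F[X]) (i : ι), f • u i = E.symm (DirectSum.lof F[X] ι (fun i => F[X] ⧸ (Submodule.span F[X] {p i ^ e i})) i
      (Submodule.Quotient.mk f)) := by
    intro f i
    rw [hu]
    simp only
    rw [← map_smul, ← map_smul, ← Submodule.Quotient.mk_smul, smul_eq_mul, mul_one]
  have hsum : ∀ f : ι → F[X], Module.AEval'.of T (∑ i, aeval T (f i) (v i)) =
      E.symm (∑ i, DirectSum.lof F[X] ι (fun i => F[X] ⧸ (Submodule.span F[X] {p i ^ e i})) i (Submodule.Quotient.mk (f i))) := by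
    intro f
    rw [map_sum, map_sum]
    refine Finset.sum_congr rfl fun i _ => ?_
    rw [← hval, ← huv, h1]
  refine ⟨ι, hι, fun i => (normalize (p i)) ^ e i, v, ?_, ?_, ?_⟩
  · intro i
    refine ⟨normalize (p i), e i, Polynomial.monic_normalize (hp i).ne_zero, ?_, rfl⟩
    exact (associated_normalize (p i)).irreducible_iff.mp (hp i)
  · intro m
    have hx : ∀ x : DirectSum ι (fun i => F[X] ⧸ (Submodule.span F[X] {p i ^ e i})),
        ∃ f : ι → F[X], x = ∑ i, DirectSum.lof F[X] ι _ i (Submodule.Quotient.mk (f i)) := by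
      intro x
      choose f hf using fun i => Submodule.Quotient.mk_surjective (Submodule.span F[X] {p i ^ e i}) (x i)
      refine ⟨f, ?_⟩
      conv_lhs => rw [← DirectSum.sum_univ_of x]
      refine Finset.sum_congr rfl fun i _ => ?_
      rw [hf]
      rfl
    obtain ⟨f, hf⟩ := hx (E (Module.AEval'.of T m))
    refine ⟨f, (Module.AEval'.of T).injective ?_⟩
    rw [hsum, ← hf, LinearEquiv.symm_apply_apply]
  · intro f
    have e1 : ∑ i, aeval T (f i) (v i) = 0 ↔
        (∑ i, DirectSum.lof F[X] ι (fun i => F[X] ⧸ (Submodule.span F[X] {p i ^ e i})) i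
          (Submodule.Quotient.mk (f i))) = 0 := by
      rw [← (Module.AEval'.of T).map_eq_zero_iff, hsum, LinearEquiv.map_eq_zero_iff]
    rw [e1, DFinsupp.ext_iff]
    refine forall_congr' fun i => ?_
    have e2 : (∑ j, DirectSum.lof F[X] ι (fun i => F[X] ⧸ (Submodule.span F[X] {p i ^ e i})) j
          (Submodule.Quotient.mk (f j))) i = Submodule.Quotient.mk (f i) := by
      have : ∀ x : DirectSum ι (fun i => F[X] ⧸ (Submodule.span F[X] {p i ^ e i})),
          x i = DirectSum.component F[X] ι (fun i => F[X] ⧸ (Submodule.span F[X] {p i ^ e i})) i x := fun x => rfl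
      rw [this, map_sum, Finset.sum_eq_single i]
      · rw [DirectSum.component.lof_self]
      · intro j _ hj
        rw [DirectSum.component.of, dif_neg hj]
      · intro h; exact absurd (Finset.mem_univ i) h
    rw [e2]
    change (Submodule.Quotient.mk (f i) : F[X] ⧸ (Submodule.span F[X] {p i ^ e i})) = 0 ↔ _
    rw [Submodule.Quotient.mk_eq_zero]
    rw [Ideal.mem_span_singleton]
    exact (((associated_normalize (p i)).pow_pow (n := e i)).dvd_iff_dvd_left)

/-- Cyclic decomposition with the trivial blocks removed. -/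
theorem exists_cyclic (T : Module.End F V) :
    ∃ (d : ℕ) (g : Fin d → F[X]) (v : Fin d → V),
      (∀ i, ∃ (q : F[X]) (e : ℕ), q.Monic ∧ Irreducible q ∧ 0 < e ∧ g i = q ^ e) ∧
      (∀ m : V, ∃ f : Fin d → F[X], m = ∑ i, aeval T (f i) (v i)) ∧
      (∀ f : Fin d → F[X], ∑ i, aeval T (f i) (v i) = 0 ↔ ∀ i, g i ∣ f i) := by
  classical
  obtain ⟨ι, hι, g, v, hg, hspan, hind⟩ := exists_cyclic_aux T
  choose q e hq hirr hge using hg
  -- trivial blocks
  have hv0 : ∀ i, e i = 0 → ∀ f : F[X], aeval T f (v i) = 0 := by
    intro i hi f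
    have := (hind (fun j => if j = i then f else 0)).mpr (by
      intro j
      by_cases hj : j = i
      · subst hj; rw [hge, hi, pow_zero]; exact one_dvd _
      · simp [hj])
    rw [Finset.sum_eq_single i] at this
    · simpa using this
    · intro j _ hj; simp [hj]
    · intro h; exact absurd (Finset.mem_univ i) h
  let κ := {i : ι // 0 < e i}
  let d := Fintype.card κ
  let ε : Fin d ≃ κ := (Fintype.equivFin κ).symm
  have key : ∀ f : ι → F[X], ∑ i, aeval T (f i) (v i) = ∑ j : Fin d, aeval T (f (ε j).1) (v (ε j).1) := by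
    intro f
    rw [Equiv.sum_comp ε (fun k : κ => aeval T (f k.1) (v k.1))]
    rw [← Finset.sum_subtype (Finset.univ.filter fun i => 0 < e i) (by simp) (fun i => aeval T (f i) (v i))]
    symm
    apply Finset.sum_subset (Finset.filter_subset _ _)
    intro i _ hi
    apply hv0
    simpa using hi
  refine ⟨d, fun j => g (ε j).1, fun j => v (ε j).1, ?_, ?_, ?_⟩
  · intro j
    exact ⟨q (ε j).1, e (ε j).1, hq _, hirr _, (ε j).2, hge _⟩
  · intro m
    obtain ⟨f, hf⟩ := hspan m
    exact ⟨fun j => f (ε j).1, by rw [hf, key]⟩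
  · intro f
    let f' : ι → F[X] := fun i => if h : 0 < e i then f (ε.symm ⟨i, h⟩) else 0
    have hf' : ∀ j, f' (ε j).1 = f j := by
      intro j
      simp only [f']
      rw [dif_pos (ε j).2]
      congr 1
      simp
    have := hind f'
    rw [key] at this
    simp only [hf'] at this
    rw [this]
    constructor
    · intro h j
      have := h (ε j).1
      rwa [hf'] at this
    · intro h i
      by_cases hi : 0 < e i
      · have := h (ε.symm ⟨i, hi⟩)
        simp only [Equiv.apply_symm_apply] at this
        simp only [f', dif_pos hi]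
        exact this
      · simp only [f', dif_neg hi]; exact dvd_zero _

end Cfsg.Agent.H953
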