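/-
Primary rational canonical form of a square matrix over a field.

* `comp g` : the companion matrix of `g`.
* `exists_basis` : basis `T^j v_i` of `V` for an endomorphism `T`, `j < deg g_i`.
* `exists_rcf` : every square matrix is similar to a block diagonal matrix of companion matrices of powers of
  monic irreducible polynomials.
* `det_blockDiagonal'`
-/
import Mathlib
import Cfsg.Agent.H953.Cyclic
set_option linter.all false

set_option autoImplicit false

namespace Cfsg.Agent.H953

open Polynomial

theorem det_blockDiagonal' {R : Type*} [CommRing R] {o : Type*} [Fintype o] [LinearOrder o] {m' : o → Type*}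
    [∀ i, Fintype (m' i)] [∀ i, DecidableEq (m' i)] (M : ∀ i, Matrix (m' i) (m' i) R) :
    (Matrix.blockDiagonal' M).det = ∏ i, (M i).det := by
  rw [(Matrix.blockTriangular_blockDiagonal' M).det_fintype]
  refine Finset.prod_congr rfl fun k _ => ?_
  rw [← Matrix.det_submatrix_equiv_self (Equiv.sigmaSubtype k).symm]
  congr 1
  ext a b
  simp [Matrix.toSquareBlock, Equiv.sigmaSubtype, Matrix.toSquareBlockProp_def]

universe u

section Basis

variable {F : Type u} [Field F] {V : Type*} [AddCommGroup V] [Module F V] [FiniteDimensional F V]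

/-- The vectors `T^j v_i`, `j < deg g_i`, form a basis adapted to the cyclic decomposition of `T`. -/
theorem exists_basis (T : Module.End F V) :
    ∃ (d : ℕ) (g : Fin d → F[X]) (v : Fin d → V) (b : Module.Basis (Σ i : Fin d, Fin (g i).natDegree) F V),
      (∀ i, ∃ (q : F[X]) (e : ℕ), q.Monic ∧ Irreducible q ∧ 0 < e ∧ g i = q ^ e) ∧
      (∀ i j, b ⟨i, j⟩ = (T ^ (j : ℕ)) (v i)) ∧
      (∀ i (f : F[X]), aeval T f (v i) = 0 ↔ g i ∣ f) ∧
      (∀ f : F[X], aeval T f = 0 ↔ ∀ i, g i ∣ f) := by
  classical
  obtain ⟨d, g, v, hg, hspan, hind⟩ := exists_cyclic T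
  have hmonic : ∀ i, (g i).Monic := by
    intro i
    obtain ⟨q, e, hq, -, -, h⟩ := hg i
    rw [h]; exact hq.pow e
  have hann : ∀ i (f : F[X]), aeval T f (v i) = 0 ↔ g i ∣ f := by
    intro i f
    have := hind (fun j => if j = i then f else 0)
    rw [Finset.sum_eq_single i] at this
    · simp only [if_true] at this
      rw [this]
      constructor
      · intro h; simpa using h i
      · intro h j
        by_cases hj : j = i
        · subst hj; simpa using h
        · simp [hj]
    · intro j _ hj; simp [hj]
    · intro h; exact absurd (Finset.mem_univ i) h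
  let w : (Σ i : Fin d, Fin (g i).natDegree) → V := fun a => (T ^ (a.2 : ℕ)) (v a.1)
  have hw : ∀ c : (Σ i : Fin d, Fin (g i).natDegree) → F, ∑ a, c a • w a =
      ∑ i, aeval T (∑ j : Fin (g i).natDegree, C (c ⟨i, j⟩) * X ^ (j : ℕ)) (v i) := by
    intro c
    rw [Fintype.sum_sigma]
    refine Finset.sum_congr rfl fun i _ => ?_
    rw [map_sum, LinearMap.sum_apply]
    refine Finset.sum_congr rfl fun j _ => ?_
    rw [map_mul, aeval_C, map_pow, aeval_X]
    simp [w, Algebra.algebraMap_eq_smul_one]
  have hdeg : ∀ i (c : Fin (g i).natDegree → F),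
      (∑ j : Fin (g i).natDegree, C (c j) * X ^ (j : ℕ)).degree < (g i).degree := by
    intro i c
    rw [Polynomial.degree_eq_natDegree (hmonic i).ne_zero]
    exact Polynomial.degree_sum_fin_lt c
  have hli : LinearIndependent F w := by
    rw [Fintype.linearIndependent_iff]
    intro c hc
    rw [hw, hind] at hc
    rintro ⟨i, j⟩
    have h0 := Polynomial.eq_zero_of_dvd_of_degree_lt (hc i) (hdeg i fun j => c ⟨i, j⟩)
    have h1 := congrArg (fun p => p.coeff (j : ℕ)) h0
    simp only [Polynomial.finsetSum_coeff, Polynomial.coeff_C_mul, Polynomial.coeff_X_pow, coeff_zero] at h1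
    rw [Finset.sum_eq_single j] at h1
    · simpa using h1
    · intro k _ hk
      rw [if_neg, mul_zero]
      intro h; exact hk (Fin.ext h.symm)
    · intro h; exact absurd (Finset.mem_univ j) h
  have hsp : ⊤ ≤ Submodule.span F (Set.range w) := by
    intro m _
    obtain ⟨f, hf⟩ := hspan m
    rw [hf]
    refine Submodule.sum_mem _ fun i _ => ?_
    have e1 : aeval T (f i) (v i) = aeval T (f i %ₘ g i) (v i) := by
      conv_lhs => rw [← Polynomial.modByMonic_add_div (f i) (g i)]
      rw [map_add, mul_comm (g i), map_mul, LinearMap.add_apply]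
      rw [Module.End.mul_apply, (hann i (g i)).mpr dvd_rfl, map_zero, add_zero]
    rw [e1]
    have hlt : (f i %ₘ g i).natDegree < (g i).natDegree ∨ f i %ₘ g i = 0 := by
      by_cases h : f i %ₘ g i = 0
      · exact Or.inr h
      · exact Or.inl (Polynomial.natDegree_lt_natDegree h (Polynomial.degree_modByMonic_lt _ (hmonic i)))
    rcases hlt with hlt | h0
    · rw [Polynomial.aeval_eq_sum_range' hlt, LinearMap.sum_apply]
      refine Submodule.sum_mem _ fun j hj => ?_
      rw [LinearMap.smul_apply]
      refine Submodule.smul_mem _ _ (Submodule.subset_span ⟨⟨i, ⟨j, Finset.mem_range.mp hj⟩⟩, rfl⟩)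
    · rw [h0, map_zero, LinearMap.zero_apply]; exact zero_mem _
  refine ⟨d, g, v, Module.Basis.mk hli hsp, hg, ?_, hann, ?_⟩
  · intro i j
    rw [Module.Basis.mk_apply]
  · intro f
    constructor
    · intro h i
      rw [← hann, h, LinearMap.zero_apply]
    · intro h
      ext m
      obtain ⟨k, hk⟩ := hspan m
      rw [hk, map_sum, LinearMap.zero_apply]
      refine Finset.sum_eq_zero fun i _ => ?_
      rw [← Module.End.mul_apply, ← map_mul, mul_comm, map_mul, Module.End.mul_apply, (hann i f).mpr (h i), map_zero]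

end Basis

section Comp

variable {F : Type*} [Field F]

/-- The companion matrix of the polynomial `g` (meant for monic `g`). -/
def comp (g : F[X]) : Matrix (Fin g.natDegree) (Fin g.natDegree) F :=
  Matrix.of fun i j => if (j : ℕ) + 1 = g.natDegree then -g.coeff i else if (i : ℕ) = j + 1 then 1 else 0

theorem minpoly_root_of_monic {g : F[X]} (hg : g.Monic) : minpoly F (AdjoinRoot.root g) = g := by
  rw [AdjoinRoot.minpoly_root hg.ne_zero, hg.leadingCoeff, inv_one, C_1, mul_one]

/-- The companion matrix is the matrix of multiplication by the root in `F[X]/(g)`. -/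
theorem comp_eq_leftMulMatrix {g : F[X]} (hg : g.Monic) :
    comp g = Algebra.leftMulMatrix (AdjoinRoot.powerBasisAux' hg) (AdjoinRoot.root g) := by
  have h := (AdjoinRoot.powerBasis' hg).leftMulMatrix
  have h2 : (AdjoinRoot.powerBasis' hg).minpolyGen = g := by
    rw [PowerBasis.minpolyGen_eq]
    exact minpoly_root_of_monic hg
  rw [h2] at h
  exact h.symm

theorem charpoly_comp {g : F[X]} (hg : g.Monic) : (comp g).charpoly = g := by
  rw [comp_eq_leftMulMatrix hg]
  have := charpoly_leftMulMatrix (AdjoinRoot.powerBasis' hg)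
  refine this.trans ?_
  exact minpoly_root_of_monic hg

/-- Polynomials in the companion matrix are the matrices of multiplication by the elements of `F[X]/(g)`. -/
theorem aeval_comp {g : F[X]} (hg : g.Monic) (h : F[X]) :
    aeval (comp g) h = Algebra.leftMulMatrix (AdjoinRoot.powerBasisAux' hg) (AdjoinRoot.mk g h) := by
  rw [comp_eq_leftMulMatrix hg, Polynomial.aeval_algHom_apply, AdjoinRoot.aeval_eq]

theorem det_aeval_comp {g : F[X]} (hg : g.Monic) (h : F[X]) :
    (aeval (comp g) h).det = Algebra.norm F (AdjoinRoot.mk g h) := by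
  rw [aeval_comp hg, ← Algebra.norm_eq_matrix_det]

theorem aeval_comp_eq_zero {g : F[X]} (hg : g.Monic) (h : F[X]) : aeval (comp g) h = 0 ↔ g ∣ h := by
  rw [aeval_comp hg, ← map_zero (Algebra.leftMulMatrix (AdjoinRoot.powerBasisAux' hg)),
    (Algebra.leftMulMatrix_injective _).eq_iff, AdjoinRoot.mk_eq_zero]

theorem det_comp {g : F[X]} (hg : g.Monic) : (comp g).det = (-1) ^ g.natDegree * g.coeff 0 := by
  rw [Matrix.det_eq_sign_charpoly_coeff, charpoly_comp hg, Fintype.card_fin]

end Comp

section Rcf

variable {F : Type u} [Field F]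

theorem toMatrix_basis {V : Type*} [AddCommGroup V] [Module F V]
    (T : Module.End F V) {d : ℕ} {g : Fin d → F[X]} {v : Fin d → V}
    (b : Module.Basis (Σ i : Fin d, Fin (g i).natDegree) F V)
    (hg : ∀ i, (g i).Monic)
    (hb : ∀ i j, b ⟨i, j⟩ = (T ^ (j : ℕ)) (v i)) (hann : ∀ i, aeval T (g i) (v i) = 0) :
    LinearMap.toMatrix b b T = Matrix.blockDiagonal' fun i => comp (g i) := by
  classical
  have hT : ∀ i j, T (b ⟨i, j⟩) = ∑ l, comp (g i) l j • b ⟨i, l⟩ := by
    intro i j
    rw [hb, ← Module.End.mul_apply, ← pow_succ']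
    by_cases hj : (j : ℕ) + 1 = (g i).natDegree
    · have h1 := hann i
      rw [Polynomial.aeval_eq_sum_range, Finset.sum_range_succ, LinearMap.add_apply, Polynomial.coeff_natDegree,
        (hg i).leadingCoeff, one_smul, add_comm, LinearMap.sum_apply, Finset.sum_range] at h1
      rw [hj, eq_neg_of_add_eq_zero_left h1, ← Finset.sum_neg_distrib]
      refine Finset.sum_congr rfl fun l _ => ?_
      simp [comp, hj, hb]
    · have hlt : (j : ℕ) + 1 < (g i).natDegree := lt_of_le_of_ne j.2 hj
      rw [Finset.sum_eq_single ⟨(j : ℕ) + 1, hlt⟩]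
      · simp [comp, hj, hb]
      · intro l _ hl
        have : ¬ (l : ℕ) = j + 1 := fun h => hl (Fin.ext h)
        simp [comp, hj, this]
      · intro h; exact absurd (Finset.mem_univ _) h
  ext ⟨i, a⟩ ⟨k, c⟩
  rw [LinearMap.toMatrix_apply, hT, map_sum, Finsupp.finsetSum_apply]
  by_cases hik : i = k
  · subst hik
    rw [Matrix.blockDiagonal'_apply_eq, Finset.sum_eq_single a]
    · simp
    · intro l _ hl
      rw [map_smul, Finsupp.smul_apply, Module.Basis.repr_self, Finsupp.single_eq_of_ne, smul_zero]
      intro h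
      simp only [Sigma.mk.injEq, heq_eq_eq, true_and] at h
      exact hl h.symm
    · intro h; exact absurd (Finset.mem_univ _) h
  · rw [Matrix.blockDiagonal'_apply_ne _ _ _ hik]
    refine Finset.sum_eq_zero fun l _ => ?_
    rw [map_smul, Finsupp.smul_apply, Module.Basis.repr_self, Finsupp.single_eq_of_ne, smul_zero]
    intro h
    simp only [Sigma.mk.injEq] at h
    exact hik h.1

/-- **Primary rational canonical form.** Every square matrix over a field is similar to a block diagonal matrix
of companion matrices of positive powers of monic irreducible polynomials `g i`; and the polynomials annihilating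
the matrix are the common multiples of the `g i`. -/
theorem exists_rcf {ι : Type*} [Fintype ι] [DecidableEq ι] (x : Matrix ι ι F) :
    ∃ (d : ℕ) (g : Fin d → F[X]) (e : (Σ i : Fin d, Fin (g i).natDegree) ≃ ι) (P : GL ι F),
      (∀ i, ∃ (q : F[X]) (m : ℕ), q.Monic ∧ Irreducible q ∧ 0 < m ∧ g i = q ^ m) ∧
      (∀ f : F[X], aeval x f = 0 ↔ ∀ i, g i ∣ f) ∧
      x * (P : Matrix ι ι F) = (P : Matrix ι ι F) * Matrix.reindex e e (Matrix.blockDiagonal' fun i => comp (g i)) := by
  classical
  set T : Module.End F (ι → F) := Matrix.toLin' x with hT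
  obtain ⟨d, g, v, b, hg, hb, hann, hall⟩ := exists_basis T
  have hmonic : ∀ i, (g i).Monic := by
    intro i
    obtain ⟨q, e, hq, -, -, h⟩ := hg i
    rw [h]; exact hq.pow e
  have hcard : Fintype.card (Σ i : Fin d, Fin (g i).natDegree) = Fintype.card ι := by
    rw [← Module.finrank_eq_card_basis b, Module.finrank_fintype_fun_eq_card]
  let e : (Σ i : Fin d, Fin (g i).natDegree) ≃ ι := Fintype.equivOfCardEq hcard
  let b' := b.reindex e
  let S := Pi.basisFun F ι
  let P : GL ι F := ⟨S.toMatrix b', b'.toMatrix S, by simp, by simp⟩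
  refine ⟨d, g, e, P, hg, ?_, ?_⟩
  · intro f
    rw [← hall, hT, ← Matrix.toLin'.map_eq_zero_iff]
    have : Matrix.toLin' (aeval x f) = aeval (Matrix.toLin' x) f := by
      have := Polynomial.aeval_algHom_apply (Matrix.toLinAlgEquiv' (R := F) (n := ι)).toAlgHom x f
      exact this.symm
    rw [this]
  · have h1 := basis_toMatrix_mul_linearMap_toMatrix b' S b' T
    have h2 := linearMap_toMatrix_mul_basis_toMatrix b' S S T
    have h3 : LinearMap.toMatrix b' b' T = Matrix.reindex e e (Matrix.blockDiagonal' fun i => comp (g i)) := by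
      rw [← toMatrix_basis T b hmonic hb (fun i => (hann i _).mpr dvd_rfl)]
      ext i j
      simp [b', LinearMap.toMatrix_apply]
    have h4 : LinearMap.toMatrix S S T = x := by
      rw [hT]
      exact LinearMap.toMatrix'_toLin' x
    rw [← h3]
    change x * S.toMatrix b' = S.toMatrix b' * _
    rw [h1, ← h4, h2]

end Rcf

end Cfsg.Agent.H953
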