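import Cfsg.Agent.H331.BFSemi
import Mathlib
import Cfsg.Agent.ClassicalGeometry.AutPSL.Main
import Cfsg.Agent.LieClassical.SLGen
import Cfsg.Agent.H331.BFChev
import Cfsg.Agent.H60.TRowTwF4
import Cfsg.Agent.S1073
import Cfsg.Agent.ClassicalGeometry.PSUAutMain
import Cfsg.Agent.ClassicalGeometry.HermOrtho
import Cfsg.Agent.S0780
import Cfsg.Agent.Prune
set_option linter.all false

section
prune_inst 0x7fffadf9fbb8fddfffff7e7faffbdffc3b921fffa6fffd4bffe069ff0bdf07000dc5abad0de010fe1fd7609410b87853fbfffeffea6bfc7ffffdfff41ffbee5ff5f7b50851948c341fbc2fff83f0778e7f3fffffffffffffffffffffffffffbeffffffffffff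

-- part: H953/BddPsl_mg
section
prune_inst 0x500000000000000000000000000410000000000202000000000000010000000a00000000000000000004000000000000000000000000000020000000000000000000000000000000000000000000000000000000000000000000
set_option linter.all false
open scoped Cfsg.Agent.FastGrp

-- part: H953/BFixed
section
/-!
Variants of `direct_bound` and `classical_bound` (H331/BFDirect) in which the spread condition on `f` is only asked for
vectors that are not fixed by `Γ`. This version applies to the conjugation representation on all matrices, on which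
every automorphism of `PSL_m(F)` (also inverse transpose) is semilinear.
-/

set_option autoImplicit false
set_option linter.unusedSectionVars false

namespace Cfsg.Agent.H953.BFixed

open Module Polynomial Matrix
open Cfsg.Agent.H331.BF

variable {Γ T : Type*} [Group Γ] [Group T] {K : Type*} [Field K] {ι : Type*} [Fintype ι] [DecidableEq ι]

/-- `w` is moved by some element of `Γ`. -/
def Moved (ρ : Γ →* Matrix ι ι K) (w : ι → K) : Prop := ∃ g, ρ g *ᵥ w ≠ w

theorem Moved.sl {π : Γ →* T} {ρ : Γ →* Matrix ι ι K} {σ : K ≃+* K} {A : Matrix ι ι K} (hA : IsUnit A)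
    {α : MulAut T} (h : SemiInd π ρ σ A α) {w : ι → K} (hw : Moved ρ w) : Moved ρ (sl σ A w) := by
  obtain ⟨g, hg⟩ := hw
  obtain ⟨g', -, h2⟩ := h.sl g
  refine ⟨g', fun h3 => hg ?_⟩
  rw [← h2] at h3
  exact (sl_bijective σ hA).1 h3

/-- every moved vector is the image of a moved vector -/
theorem exists_moved [Finite K] {π : Γ →* T} {ρ : Γ →* Matrix ι ι K} {σ : K ≃+* K} {A : Matrix ι ι K}
    (hA : IsUnit A) {α : MulAut T} (h : SemiInd π ρ σ A α) {u : ι → K} (hu : Moved ρ u) (n : ℕ) :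
    ∃ v, Moved ρ v ∧ (sl σ A)^[n] v = u := by
  let F : {w // Moved ρ w} → {w // Moved ρ w} := fun w => ⟨sl σ A w.1, w.2.sl hA h⟩
  have hinj : Function.Injective F := by
    intro s t hst
    have h' := congrArg Subtype.val hst
    exact Subtype.ext ((sl_bijective σ hA).1 h')
  have hsurj : Function.Surjective F := Finite.surjective_of_injective hinj
  obtain ⟨v, hv⟩ := (hsurj.iterate n) ⟨u, hu⟩
  have hval : ∀ (m : ℕ) (w : {w // Moved ρ w}), (F^[m] w).1 = (sl σ A)^[m] w.1 := by
    intro m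
    induction m with
    | zero => intro w; rfl
    | succ m ih => intro w; rw [Function.iterate_succ_apply, ih, Function.iterate_succ_apply]
  refine ⟨v.1, v.2, ?_⟩
  rw [← hval, hv]

/-- **Direct bound** (counting form), with `f` spreading only the moved vectors. -/
theorem direct_bound [Finite K] [Finite Γ] [Finite T] {π : Γ →* T} (hπ : Function.Surjective π)
    {ρ : Γ →* Matrix ι ι K}
    {σ : K ≃+* K} {A : Matrix ι ι K} (hA : IsUnit A) {α : MulAut T} (h : SemiInd π ρ σ A α)
    (hker : ∀ z : Γ, π z = 1 → ∃ c : K, ρ z = c • (1 : Matrix ι ι K))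
    {n k : ℕ} (hn : 0 < n) (hα : α ^ n = 1) (hk : Nat.card {x : T // α x = x} ≤ k)
    (S : Finset K) (hS : ∀ s ∈ S, σ s = s)
    (x0 : K → Γ) {D : ℕ} (e f : ι → K) (he : Moved ρ e) (hx0 : PM S D (Matrix.vecMulVec e f) (fun s => ρ (x0 s)))
    (u0 : ι → K) (hu0 : Moved ρ u0) (hu0e : ∀ c : K, e ≠ c • u0)
    (M : ℕ) (hsp : ∀ w : ι → K, Moved ρ w →
      Nat.card {g // f ⬝ᵥ (ρ g *ᵥ w) = 0} * S.card ≤ M * Nat.card Γ) :
    S.card ≤ k * (2 * M + n * D) := by
  classical
  have : Fintype Γ := Fintype.ofFinite Γ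
  have he0 : e ≠ 0 := by
    rintro rfl
    obtain ⟨g, hg⟩ := he
    exact hg (Matrix.mulVec_zero _)
  obtain ⟨v0, hv0m, hv0⟩ := exists_moved hA h hu0 n
  have hψ : ∃ ψ : ι → K, ψ ⬝ᵥ ((sl σ A)^[n] v0) = 0 ∧ ψ ⬝ᵥ e ≠ 0 := by
    rw [hv0]
    exact exists_functional he0 hu0e
  -- counting
  set Z := Nat.card {g : Γ // Nm α n (π g) = 1} with hZ
  have hcov := card_le_of_surj π hπ α hα hk
  have hb1 := hsp (sl σ A e) (he.sl hA h)
  have hb2 := hsp (sl σ A v0) (hv0m.sl hA h)
  have hdc : Z * S.card = ∑ g : Γ, Nat.card {s : S // Nm α n (π (x0 s * g)) = 1} := by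
    have e1 : Nat.card (Σ s : S, {g : Γ // Nm α n (π (x0 s * g)) = 1}) =
        Nat.card (Σ g : Γ, {s : S // Nm α n (π (x0 s * g)) = 1}) :=
      Nat.card_congr ⟨fun p => ⟨p.2.1, p.1, p.2.2⟩, fun p => ⟨p.2.1, p.1, p.2.2⟩, fun _ => rfl, fun _ => rfl⟩
    rw [Nat.card_sigma, Nat.card_sigma] at e1
    rw [← e1]
    have e2 : ∀ s : S, Nat.card {g : Γ // Nm α n (π (x0 s * g)) = 1} = Z := by
      intro s
      refine Nat.card_congr ((Equiv.mulLeft (x0 s)).subtypeEquiv ?_)
      intro g
      rfl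
    rw [Finset.sum_congr rfl fun s _ => e2 s]
    simp only [mul_comm, _root_.Finset.univ_eq_attach, _root_.Finset.sum_const, _root_.Finset.card_attach, _root_.smul_eq_mul]
  let B1 : Γ → Prop := fun g => f ⬝ᵥ (ρ g *ᵥ sl σ A e) = 0
  let B2 : Γ → Prop := fun g => f ⬝ᵥ (ρ g *ᵥ sl σ A v0) = 0
  have hbd : ∀ g : Γ, Nat.card {s : S // Nm α n (π (x0 s * g)) = 1} ≤
      (if B1 g then S.card else 0) + (if B2 g then S.card else 0) + n * D := by
    intro g
    have hle : Nat.card {s : S // Nm α n (π (x0 s * g)) = 1} ≤ S.card := by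
      rw [← Fintype.card_coe, ← Nat.card_eq_fintype_card]
      exact Nat.card_le_card_of_injective (fun s : {s : S // Nm α n (π (x0 s * g)) = 1} => s.1)
        Subtype.val_injective
    by_cases hB1 : B1 g
    · rw [if_pos hB1]; omega
    · by_cases hB2 : B2 g
      · rw [if_pos hB2]; omega
      · rw [if_neg hB1, if_neg hB2, zero_add, zero_add]
        exact few_params h hker S hS x0 e f hx0 hn v0 hψ g hB2 hB1
  have hsum : ∀ B : Γ → Prop, ∑ g : Γ, (if B g then S.card else 0) = Nat.card {g // B g} * S.card := by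
    intro B
    rw [← Finset.sum_filter, Finset.sum_const, smul_eq_mul, Nat.card_eq_fintype_card, Fintype.card_subtype]
  have hpos : 0 < Nat.card Γ := Nat.card_pos
  have hfinal : Nat.card Γ * S.card ≤ Nat.card Γ * (k * (2 * M + n * D)) :=
    calc Nat.card Γ * S.card ≤ (k * Z) * S.card := Nat.mul_le_mul_right _ hcov
      _ = k * (Z * S.card) := by ring
      _ = k * ∑ g : Γ, Nat.card {s : S // Nm α n (π (x0 s * g)) = 1} := by rw [hdc]
      _ ≤ k * ∑ g : Γ, ((if B1 g then S.card else 0) + (if B2 g then S.card else 0) + n * D) :=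
          Nat.mul_le_mul_left _ (Finset.sum_le_sum fun g _ => hbd g)
      _ = k * (Nat.card {g // B1 g} * S.card + Nat.card {g // B2 g} * S.card + Nat.card Γ * (n * D)) := by
          rw [Finset.sum_add_distrib, Finset.sum_add_distrib, hsum, hsum, Finset.sum_const, smul_eq_mul,
            Finset.card_univ, Nat.card_eq_fintype_card (α := Γ)]
      _ ≤ k * (M * Nat.card Γ + M * Nat.card Γ + Nat.card Γ * (n * D)) :=
          Nat.mul_le_mul_left _ (Nat.add_le_add_right (Nat.add_le_add hb1 hb2) _)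
      _ = _ := by ring
  exact Nat.le_of_mul_le_mul_left hfinal hpos

/-- **Bounded dimension**, with `f` spreading only the moved vectors. -/
theorem classical_bound [Finite K] [Finite Γ] [Finite T] {π : Γ →* T} (hπ : Function.Surjective π)
    {ρ : Γ →* Matrix ι ι K} {σ : K ≃+* K} {A : Matrix ι ι K} (hA : IsUnit A) {α : MulAut T}
    (h : SemiInd π ρ σ A α) (hker : ∀ z : Γ, π z = 1 → ∃ c : K, ρ z = c • (1 : Matrix ι ι K))
    {n k : ℕ} (hn : 0 < n) (hα : α ^ n = 1) (hk : Nat.card {x : T // α x = x} ≤ k)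
    (K' S : Finset K) (hK' : Nat.card K ≤ K'.card ^ 2) (hSK' : S ⊆ K')
    (hS : ∀ s ∈ S, σ s = s) (hSc : Nat.card {t : K // σ t = t} ≤ 2 * S.card ^ 2) (h0 : (0 : K) ∈ K')
    (x0 : K → Γ) {D D' : ℕ} (hD : 0 < D) (e f : ι → K)
    (hx0 : PM K' D (Matrix.vecMulVec e f) (fun s => ρ (x0 s)))
    (hx0' : PM K' D ((-1 : K) ^ D • Matrix.vecMulVec e f) (fun s => ρ (x0 s)⁻¹))
    (g1 : Γ) (hg1 : f ⬝ᵥ (ρ g1 *ᵥ e) ≠ 0) (hg1' : f ⬝ᵥ (ρ g1⁻¹ *ᵥ e) ≠ 0)
    (he : Moved ρ e) (u0 : ι → K) (hu0 : Moved ρ u0) (hu0e : ∀ c : K, e ≠ c • u0)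
    {I : Type*} (x : I → K → Γ) (hx00 : ∀ i, x i 0 = 1)
    (hgen : Subgroup.closure {g | ∃ i, ∃ s ∈ K', x i s = g} = ⊤)
    (hpoly : ∀ i a b, ∃ P : K[X], P.natDegree ≤ D' ∧ ∀ s ∈ K', ρ (x i s) a b = P.eval s)
    (hex : ∀ w : ι → K, Moved ρ w → ∃ g, f ⬝ᵥ (ρ g *ᵥ w) ≠ 0) :
    Nat.card K ≤ (2 * (k * (2 * (Fintype.card ι * D') + n * D)) ^ 2) ^ (2 * n) + (2 * D) ^ 6 := by
  classical
  -- the bound on `S`
  have hsp : ∀ w : ι → K, Moved ρ w →
      Nat.card {g // f ⬝ᵥ (ρ g *ᵥ w) = 0} * S.card ≤ (Fintype.card ι * D') * Nat.card Γ := by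
    intro w hw
    refine le_trans (Nat.mul_le_mul_left _ (Finset.card_le_card hSK')) ?_
    exact spread ρ K' h0 x hx00 hgen hpoly f w (hex w hw)
  have hSb := direct_bound hπ hA h hker hn hα hk S hS x0 e f he
    (fun b c => by
      obtain ⟨P, h1, h2, h3⟩ := hx0 b c
      exact ⟨P, h1, h2, fun s hs => h3 s (hSK' hs)⟩) u0 hu0 hu0e (Fintype.card ι * D') hsp
  -- the trace polynomial
  choose P hP1 hP2 hP3 using hx0
  choose P' hP1' hP2' hP3' using hx0'
  let Q1 : K[X] := ∑ a, ∑ b, P a b * C (ρ g1 b a)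
  let Q2 : K[X] := ∑ a, ∑ b, C (ρ g1⁻¹ a b) * P' b a
  have hdeg1 : Q1.natDegree ≤ D := natDegree_sum_le_of_forall_le _ _ fun a _ =>
    natDegree_sum_le_of_forall_le _ _ fun b _ => le_trans (natDegree_mul_C_le _ _) (hP1 a b)
  have hdeg2 : Q2.natDegree ≤ D := natDegree_sum_le_of_forall_le _ _ fun a _ =>
    natDegree_sum_le_of_forall_le _ _ fun b _ => le_trans (natDegree_C_mul_le _ _) (hP1' b a)
  have hdot : ∀ g : Γ, f ⬝ᵥ (ρ g *ᵥ e) = ∑ a, ∑ b, f a * (ρ g a b * e b) := by
    intro g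
    simp only [dotProduct, Matrix.mulVec, Finset.mul_sum]
  have hc1 : Q1.coeff D = f ⬝ᵥ (ρ g1 *ᵥ e) := by
    rw [hdot]
    simp only [Q1, finsetSum_coeff, coeff_mul_C, hP2, Matrix.vecMulVec_apply]
    rw [Finset.sum_comm]
    refine Finset.sum_congr rfl fun b _ => Finset.sum_congr rfl fun a _ => by ring
  have hc2 : Q2.coeff D = (-1) ^ D * (f ⬝ᵥ (ρ g1⁻¹ *ᵥ e)) := by
    rw [hdot]
    simp only [Q2, finsetSum_coeff, coeff_C_mul, hP2', Matrix.smul_apply, Matrix.vecMulVec_apply, smul_eq_mul,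
      Finset.mul_sum]
    refine Finset.sum_congr rfl fun a _ => Finset.sum_congr rfl fun b _ => by ring
  have hcQ : (Q1 * Q2).coeff (D + D) = (f ⬝ᵥ (ρ g1 *ᵥ e)) * ((-1) ^ D * (f ⬝ᵥ (ρ g1⁻¹ *ᵥ e))) := by
    rw [coeff_mul_add_eq_of_natDegree_le hdeg1 hdeg2, hc1, hc2]
  have hcQ0 : (Q1 * Q2).coeff (D + D) ≠ 0 := by
    rw [hcQ]
    exact mul_ne_zero hg1 (mul_ne_zero (pow_ne_zero _ (neg_ne_zero.mpr one_ne_zero)) hg1')
  have hdQ : (Q1 * Q2).natDegree ≤ 2 * D :=
    le_trans natDegree_mul_le (by omega)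
  have hdQ' : 0 < (Q1 * Q2).natDegree := by
    have := le_natDegree_of_ne_zero hcQ0
    omega
  have hval : ∀ t ∈ K', (σ ^ n) ((Q1 * Q2).eval t) = (Q1 * Q2).eval t := by
    intro t ht
    have h1 : Q1.eval t = (ρ (x0 t * g1)).trace := by
      simp only [Q1, eval_finsetSum, eval_mul, eval_C, map_mul, Matrix.trace, Matrix.diag_apply, Matrix.mul_apply]
      exact Finset.sum_congr rfl fun a _ => Finset.sum_congr rfl fun b _ =>
        congrArg (· * ρ g1 b a) (hP3 a b t ht).symm
    have h2 : Q2.eval t = (ρ (x0 t * g1)⁻¹).trace := by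
      simp only [Q2, eval_finsetSum, eval_mul, eval_C, _root_.mul_inv_rev, map_mul, Matrix.trace, Matrix.diag_apply,
        Matrix.mul_apply]
      exact Finset.sum_congr rfl fun a _ => Finset.sum_congr rfl fun b _ =>
        congrArg (ρ g1⁻¹ a b * ·) (hP3' b a t ht).symm
    rw [eval_mul, h1, h2]
    exact trace_fixed hA h hker hα _
  refine card_field_le σ hn K' hK' (Q1 * Q2) (2 * D) hdQ' hdQ hval _ ?_
  exact le_trans hSc (Nat.mul_le_mul_left _ (Nat.pow_le_pow_left hSb 2))

end Cfsg.Agent.H953.BFixed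
end

-- part: H953/AdPsl
section
/-!
The conjugation representation of `SL ι F` on all matrices; every automorphism of `PSL ι F` is semilinear on it.
-/

set_option autoImplicit false
set_option linter.unusedSectionVars false

namespace Cfsg.Agent.H953.AdPsl

open Matrix Kronecker
open Cfsg.Agent.H331.BF
open Cfsg.Agent.ClassicalGeometry.AutPSL.Root Cfsg.Agent.ClassicalGeometry.AutPSL.Auto

variable {ι F : Type*} [Fintype ι] [DecidableEq ι] [Field F]

theorem coe_mul_coe_inv (g : Matrix.SpecialLinearGroup ι F) :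
    (g : Matrix ι ι F) * ((g⁻¹ : Matrix.SpecialLinearGroup ι F) : Matrix ι ι F) = 1 := by
  rw [← Matrix.SpecialLinearGroup.coe_mul, mul_inv_cancel, Matrix.SpecialLinearGroup.coe_one]

theorem coe_inv_mul_coe (g : Matrix.SpecialLinearGroup ι F) :
    ((g⁻¹ : Matrix.SpecialLinearGroup ι F) : Matrix ι ι F) * (g : Matrix ι ι F) = 1 := by
  rw [← Matrix.SpecialLinearGroup.coe_mul, inv_mul_cancel, Matrix.SpecialLinearGroup.coe_one]

/-- the conjugation representation -/
def Ad : Matrix.SpecialLinearGroup ι F →* Matrix (ι × ι) (ι × ι) F where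
  toFun g := (g : Matrix ι ι F) ⊗ₖ ((g⁻¹ : Matrix.SpecialLinearGroup ι F) : Matrix ι ι F)ᵀ
  map_one' := by
    rw [inv_one, Matrix.SpecialLinearGroup.coe_one, transpose_one, one_kronecker_one]
  map_mul' g h := by
    rw [_root_.mul_inv_rev, Matrix.SpecialLinearGroup.coe_mul, Matrix.SpecialLinearGroup.coe_mul, transpose_mul,
      mul_kronecker_mul]

theorem Ad_def (g : Matrix.SpecialLinearGroup ι F) :
    Ad g = (g : Matrix ι ι F) ⊗ₖ ((g⁻¹ : Matrix.SpecialLinearGroup ι F) : Matrix ι ι F)ᵀ := rfl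

theorem Ad_apply (g : Matrix.SpecialLinearGroup ι F) (a b : ι × ι) :
    Ad g a b = (g : Matrix ι ι F) a.1 b.1 * ((g⁻¹ : Matrix.SpecialLinearGroup ι F) : Matrix ι ι F) b.2 a.2 := rfl

/-- entries as a vector -/
def toV (X : Matrix ι ι F) : ι × ι → F := fun p => X p.1 p.2

/-- the matrix of a vector -/
def ofV (w : ι × ι → F) : Matrix ι ι F := fun i j => w (i, j)

theorem toV_ofV (w : ι × ι → F) : toV (ofV w) = w := rfl

theorem Ad_mulVec (g : Matrix.SpecialLinearGroup ι F) (X : Matrix ι ι F) :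
    Ad g *ᵥ toV X = toV ((g : Matrix ι ι F) * X * ((g⁻¹ : Matrix.SpecialLinearGroup ι F) : Matrix ι ι F)) := by
  funext p
  simp only [Matrix.mulVec, dotProduct, Ad_apply, toV, Fintype.sum_prod_type, Matrix.mul_apply, Finset.sum_mul]
  rw [Finset.sum_comm]
  refine Finset.sum_congr rfl fun i _ => Finset.sum_congr rfl fun j _ => ?_
  ring

theorem Ad_center {z : Matrix.SpecialLinearGroup ι F} (hz : pr z = 1) :
    ∃ c : F, Ad z = c • (1 : Matrix (ι × ι) (ι × ι) F) := by
  obtain ⟨c, hc⟩ := exists_smul_of_pr_eq (x := 1) (y := z) (by rw [hz, map_one])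
  obtain ⟨d, hd⟩ := exists_smul_of_pr_eq (x := 1) (y := z⁻¹) (by rw [map_inv, hz, map_one, inv_one])
  refine ⟨c * d, ?_⟩
  rw [Ad_def, hc, hd, Matrix.SpecialLinearGroup.coe_one, transpose_smul, transpose_one, smul_kronecker,
    kronecker_smul, one_kronecker_one, smul_smul]

theorem isUnit_kron {X Y : Matrix ι ι F} (hX : IsUnit X) (hY : IsUnit Y) : IsUnit (X ⊗ₖ Y) := by
  obtain ⟨u, rfl⟩ := hX
  obtain ⟨v, rfl⟩ := hY
  rw [isUnit_iff_exists]
  refine ⟨((u⁻¹ : (Matrix ι ι F)ˣ) : Matrix ι ι F) ⊗ₖ ((v⁻¹ : (Matrix ι ι F)ˣ) : Matrix ι ι F), ?_, ?_⟩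
  · rw [← mul_kronecker_mul, Units.mul_inv, Units.mul_inv, one_kronecker_one]
  · rw [← mul_kronecker_mul, Units.inv_mul, Units.inv_mul, one_kronecker_one]

theorem isUnit_transpose' {X : Matrix ι ι F} (hX : IsUnit X) : IsUnit Xᵀ := by
  rw [Matrix.isUnit_iff_isUnit_det] at hX ⊢
  rwa [Matrix.det_transpose]

theorem coe_inv_cj (A : GL ι F) (g : Matrix.SpecialLinearGroup ι F) :
    (((cj A g)⁻¹ : Matrix.SpecialLinearGroup ι F) : Matrix ι ι F) =
      (A : Matrix ι ι F) * ((g⁻¹ : Matrix.SpecialLinearGroup ι F) : Matrix ι ι F) *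
        ((A⁻¹ : GL ι F) : Matrix ι ι F) := by
  rw [← map_inv, coe_cj]

/-- conjugation by `A` -/
theorem semiInd_cj (A : GL ι F) :
    ∃ (σ : F ≃+* F) (B : Matrix (ι × ι) (ι × ι) F), IsUnit B ∧
      SemiInd (pr : Matrix.SpecialLinearGroup ι F →* _) Ad σ B (lift (cj A)) := by
  refine ⟨1, (A : Matrix ι ι F) ⊗ₖ (((A⁻¹ : GL ι F) : Matrix ι ι F))ᵀ,
    isUnit_kron A.isUnit (isUnit_transpose' (A⁻¹).isUnit), ?_⟩
  intro g
  refine ⟨cj A g, rfl, ?_⟩
  have h1 : (Ad g).map (1 : F ≃+* F) = Ad g := by ext i j; rfl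
  have h2 : ((A⁻¹ : GL ι F) : Matrix ι ι F) * (A : Matrix ι ι F) = 1 := by
    rw [← Units.val_mul, inv_mul_cancel, Units.val_one]
  rw [h1, Ad_def, Ad_def, coe_inv_cj, coe_cj, ← mul_kronecker_mul, ← mul_kronecker_mul, Matrix.mul_assoc, h2,
    Matrix.mul_one, ← transpose_mul, ← transpose_mul, Matrix.mul_assoc (A : Matrix ι ι F), ← Matrix.mul_assoc
      ((A⁻¹ : GL ι F) : Matrix ι ι F), h2, Matrix.one_mul]

/-- field automorphisms -/
theorem semiInd_fld (σ : F ≃+* F) :
    ∃ (τ : F ≃+* F) (B : Matrix (ι × ι) (ι × ι) F), IsUnit B ∧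
      SemiInd (pr : Matrix.SpecialLinearGroup ι F →* _) Ad τ B (lift (fld σ)) := by
  refine ⟨σ, 1, isUnit_one, ?_⟩
  intro g
  refine ⟨fld σ g, rfl, ?_⟩
  rw [Matrix.mul_one, Matrix.one_mul]
  ext a b
  rw [Ad_apply, ← map_inv, coe_fld_apply, coe_fld_apply, Matrix.map_apply, Ad_apply, map_mul]

/-- the transposition operator -/
def swapM (ι F : Type*) [Fintype ι] [DecidableEq ι] [Field F] : Matrix (ι × ι) (ι × ι) F :=
  (1 : Matrix (ι × ι) (ι × ι) F).submatrix Prod.swap id

theorem mul_swapM (M : Matrix (ι × ι) (ι × ι) F) : M * swapM ι F = M.submatrix id Prod.swap := by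
  ext a b
  simp only [Matrix.mul_apply, swapM, submatrix_apply, id, one_apply, mul_ite, mul_one, mul_zero]
  rw [Finset.sum_eq_single (Prod.swap b)]
  · simp
  · intro c _ hc
    rw [if_neg]
    intro h
    apply hc
    rw [← h, Prod.swap_swap]
  · intro h; exact absurd (Finset.mem_univ _) h

theorem swapM_mul (M : Matrix (ι × ι) (ι × ι) F) : swapM ι F * M = M.submatrix Prod.swap id := by
  ext a b
  simp only [Matrix.mul_apply, swapM, submatrix_apply, id, one_apply, ite_mul, one_mul, zero_mul]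
  rw [Finset.sum_ite_eq]
  simp only [_root_.Finset.mem_univ, ↓ _root_.reduceIte]

theorem isUnit_swapM : IsUnit (swapM ι F) := by
  have h : swapM ι F * swapM ι F = 1 := by
    rw [swapM_mul, swapM, submatrix_submatrix]
    have h1 : (Prod.swap ∘ Prod.swap : ι × ι → ι × ι) = id := by funext p; simp
    rw [h1]
    rfl
  rw [isUnit_iff_exists]
  exact ⟨swapM ι F, h, h⟩

/-- inverse transpose -/
theorem semiInd_itr :
    ∃ (σ : F ≃+* F) (B : Matrix (ι × ι) (ι × ι) F), IsUnit B ∧
      SemiInd (pr : Matrix.SpecialLinearGroup ι F →* _) Ad σ B (lift itr) := by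
  refine ⟨1, swapM ι F, isUnit_swapM, ?_⟩
  intro g
  refine ⟨itr g, rfl, ?_⟩
  have h1 : (Ad g).map (1 : F ≃+* F) = Ad g := by ext i j; rfl
  rw [h1, mul_swapM, swapM_mul]
  ext a b
  rw [submatrix_apply, submatrix_apply, Ad_apply, Ad_apply, ← map_inv, coe_itr, coe_itr, inv_inv]
  simp only [transpose_apply, id, Prod.fst_swap, Prod.snd_swap]
  ring

/-- Every automorphism of `PSL_m(F)` is semilinear on the conjugation representation. -/
theorem exists_semiInd_Ad [Fintype F] {m : ℕ} (hm : 2 ≤ m)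
    (α : MulAut (Matrix.ProjectiveSpecialLinearGroup (Fin m) F)) :
    ∃ (σ : F ≃+* F) (B : Matrix (Fin m × Fin m) (Fin m × Fin m) F), IsUnit B ∧
      SemiInd (pr : Matrix.SpecialLinearGroup (Fin m) F →* _) Ad σ B α := by
  obtain ⟨p, hp⟩ := CharP.exists F
  obtain ⟨k, hpp, hk⟩ := FiniteField.card F p
  have : Fact p.Prime := ⟨hpp⟩
  have hmul : ∀ a b : MulAut (Matrix.ProjectiveSpecialLinearGroup (Fin m) F),
      (∃ (σ : F ≃+* F) (B : Matrix (Fin m × Fin m) (Fin m × Fin m) F), IsUnit B ∧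
        SemiInd (pr : Matrix.SpecialLinearGroup (Fin m) F →* _) Ad σ B a) →
      (∃ (σ : F ≃+* F) (B : Matrix (Fin m × Fin m) (Fin m × Fin m) F), IsUnit B ∧
        SemiInd (pr : Matrix.SpecialLinearGroup (Fin m) F →* _) Ad σ B b) →
      (∃ (σ : F ≃+* F) (B : Matrix (Fin m × Fin m) (Fin m × Fin m) F), IsUnit B ∧
        SemiInd (pr : Matrix.SpecialLinearGroup (Fin m) F →* _) Ad σ B (a * b)) := by
    rintro a b ⟨σ, A, hA, h⟩ ⟨σ', A', hA', h'⟩
    exact ⟨σ * σ', A * A'.map σ, hA.mul (isUnit_map hA'), h.mul h'⟩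
  rcases Nat.lt_or_ge m 3 with h3 | h3
  · obtain rfl : m = 2 := by omega
    obtain ⟨A, σ, rfl⟩ := Cfsg.Agent.ClassicalGeometry.AutPSL.Main.surj_two p α
    rw [map_mul]
    exact hmul _ _ (semiInd_cj A) (semiInd_fld σ)
  · rcases Cfsg.Agent.ClassicalGeometry.AutPSL.Main.surj_three p h3 α with ⟨A, σ, rfl⟩ | ⟨A, σ, rfl⟩
    · rw [map_mul]
      exact hmul _ _ (semiInd_cj A) (semiInd_fld σ)
    · rw [map_mul, map_mul]
      exact hmul _ _ (hmul _ _ (semiInd_cj A) (semiInd_fld σ)) semiInd_itr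

end Cfsg.Agent.H953.AdPsl
end

-- part: H953/AdBound
section
/-!
Bounded rank, growing field: automorphisms of `PSL_m(F)` with few fixed points, by the conjugation representation.
-/

set_option autoImplicit false
set_option linter.unusedSectionVars false

namespace Cfsg.Agent.H953.AdBound

open Matrix Polynomial
open Cfsg.Agent.H331.BF Cfsg.Agent.H953.BFixed Cfsg.Agent.H953.AdPsl
open Cfsg.Agent.ClassicalGeometry.AutPSL.Root Cfsg.Agent.ClassicalGeometry.AutPSL.Auto

variable {ι F : Type*} [Fintype ι] [DecidableEq ι] [Field F]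

theorem exists_perm {i0 j0 i j : ι} (h0 : i0 ≠ j0) (hij : i ≠ j) :
    ∃ τ : Equiv.Perm ι, τ j0 = i ∧ τ i0 = j := by
  refine ⟨Equiv.swap (Equiv.swap j0 i i0) j * Equiv.swap j0 i, ?_, ?_⟩
  · rw [Equiv.Perm.mul_apply, Equiv.swap_apply_left, Equiv.swap_apply_of_ne_of_ne _ hij]
    intro h
    have h1 : Equiv.swap j0 i j0 = Equiv.swap j0 i i0 := by rw [← h, Equiv.swap_apply_left]
    exact h0 ((Equiv.swap j0 i).injective h1).symm
  · rw [Equiv.Perm.mul_apply, Equiv.swap_apply_left]

/-- a monomial element of `SL` -/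
theorem exists_mono {i0 j0 i j : ι} (h0 : i0 ≠ j0) (hij : i ≠ j) :
    ∃ g : Matrix.SpecialLinearGroup ι F, (∀ k, k ≠ i → (g : Matrix ι ι F) j0 k = 0) ∧
      (g : Matrix ι ι F) j0 i ≠ 0 ∧ (∀ k, k ≠ i0 → (g : Matrix ι ι F) k j = 0) := by
  obtain ⟨τ, h1, h2⟩ := exists_perm h0 hij
  let D : ι → F := Pi.mulSingle j0 (((Equiv.Perm.sign τ : ℤˣ) : ℤ) : F)
  have hs : ((((Equiv.Perm.sign τ : ℤˣ) : ℤ) : F)) * (((Equiv.Perm.sign τ : ℤˣ) : ℤ) : F) = 1 := by
    rw [← Int.cast_mul, ← Units.val_mul, Int.units_mul_self, Units.val_one, Int.cast_one]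
  have hD : ∀ k, D k ≠ 0 := by
    intro k
    by_cases hk : k = j0
    · subst hk
      simp only [D, Pi.mulSingle_eq_same]
      exact left_ne_zero_of_mul_eq_one hs
    · simp only [D, Pi.mulSingle_eq_of_ne hk]
      exact one_ne_zero
  have hdet : (diagonal D * τ.permMatrix F).det = 1 := by
    rw [det_mul, det_diagonal, det_permutation]
    simp only [D]
    rw [Finset.prod_pi_mulSingle', if_pos (Finset.mem_univ _)]
    exact hs
  have happ : ∀ a b, (diagonal D * τ.permMatrix F) a b = D a * (if τ a = b then 1 else 0) := by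
    intro a b
    rw [diagonal_mul]
    congr 1
    simp [Equiv.Perm.permMatrix, PEquiv.toMatrix_apply, eq_comm]
  refine ⟨⟨diagonal D * τ.permMatrix F, hdet⟩, ?_, ?_, ?_⟩
  · intro k hk
    change (diagonal D * τ.permMatrix F) j0 k = 0
    rw [happ, if_neg (by rw [h1]; exact Ne.symm hk), mul_zero]
  · change (diagonal D * τ.permMatrix F) j0 i ≠ 0
    rw [happ, if_pos h1, mul_one]
    exact hD _
  · intro k hk
    change (diagonal D * τ.permMatrix F) k j = 0
    rw [happ, if_neg, mul_zero]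
    intro h3
    apply hk
    exact τ.injective (h3.trans h2.symm)

/-- conjugate of `W` by `g` -/
def cjg (g : Matrix.SpecialLinearGroup ι F) (W : Matrix ι ι F) : Matrix ι ι F :=
  (g : Matrix ι ι F) * W * ((g⁻¹ : Matrix.SpecialLinearGroup ι F) : Matrix ι ι F)

theorem cjg_mul (g h : Matrix.SpecialLinearGroup ι F) (W : Matrix ι ι F) :
    cjg (g * h) W = cjg g (cjg h W) := by
  unfold cjg
  rw [_root_.mul_inv_rev, Matrix.SpecialLinearGroup.coe_mul, Matrix.SpecialLinearGroup.coe_mul]
  simp only [Matrix.mul_assoc]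

theorem cjg_mul_coe (g : Matrix.SpecialLinearGroup ι F) (W : Matrix ι ι F) :
    cjg g W * (g : Matrix ι ι F) = (g : Matrix ι ι F) * W := by
  unfold cjg
  rw [Matrix.mul_assoc, coe_inv_mul_coe, Matrix.mul_one]

/-- If one fixed off-diagonal entry vanishes for all conjugates of `W`, then `W` is fixed by all conjugations. -/
theorem cjg_eq_of_entry {i0 j0 : ι} (h0 : i0 ≠ j0) {W : Matrix ι ι F}
    (hW : ∀ g : Matrix.SpecialLinearGroup ι F, cjg g W j0 i0 = 0) (g : Matrix.SpecialLinearGroup ι F) :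
    cjg g W = W := by
  -- off-diagonal entries vanish
  have hoff : ∀ V : Matrix ι ι F, (∀ g : Matrix.SpecialLinearGroup ι F, cjg g V j0 i0 = 0) →
      ∀ i j, i ≠ j → V i j = 0 := by
    intro V hV i j hij
    obtain ⟨g, h1, h2, h3⟩ := exists_mono (F := F) h0 hij
    have h4 := congrFun (congrFun (cjg_mul_coe g V) j0) j
    rw [Matrix.mul_apply, Matrix.mul_apply, Finset.sum_eq_single i0, Finset.sum_eq_single i, hV g, zero_mul] at h4
    · rcases mul_eq_zero.mp h4.symm with h5 | h5
      · exact absurd h5 h2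
      · exact h5
    · intro k _ hk
      rw [h1 k hk, zero_mul]
    · intro h; exact absurd (Finset.mem_univ _) h
    · intro k _ hk
      rw [h3 k hk, mul_zero]
    · intro h; exact absurd (Finset.mem_univ _) h
  have hWo := hoff W hW
  -- diagonal entries agree
  have hdiag : ∀ i j, W i i = W j j := by
    intro i j
    by_cases hij : i = j
    · rw [hij]
    · let t : Matrix.SpecialLinearGroup ι F := Matrix.SpecialLinearGroup.transvection hij (1 : F)
      have ht : ∀ a b, (t : Matrix ι ι F) a b = (1 : Matrix ι ι F) a b + single i j (1 : F) a b := fun a b => rfl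
      have hV := hoff (cjg t W) (fun g => by rw [← cjg_mul]; exact hW _)
      have h4 := congrFun (congrFun (cjg_mul_coe t W) i) i
      have h5 := congrFun (congrFun (cjg_mul_coe t W) i) j
      rw [Matrix.mul_apply, Matrix.mul_apply, Finset.sum_eq_single i, Finset.sum_eq_single i] at h4
      · rw [Matrix.mul_apply, Matrix.mul_apply, Finset.sum_eq_single i, Finset.sum_eq_single j] at h5
        · have e1 : (t : Matrix ι ι F) i i = 1 := by
            rw [ht, one_apply_eq, single_apply, if_neg (by rintro ⟨-, h⟩; exact hij h.symm), add_zero]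
          have e2 : (t : Matrix ι ι F) i j = 1 := by
            rw [ht, one_apply_ne hij, single_apply, if_pos ⟨rfl, rfl⟩, zero_add]
          rw [e1, mul_one, one_mul] at h4
          rw [e2, mul_one, one_mul] at h5
          rw [← h4, h5]
        · intro k _ hk
          rw [hWo k j hk, mul_zero]
        · intro h; exact absurd (Finset.mem_univ _) h
        · intro k _ hk
          rw [hV i k (Ne.symm hk), zero_mul]
        · intro h; exact absurd (Finset.mem_univ _) h
      · intro k _ hk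
        rw [hWo k i hk, mul_zero]
      · intro h; exact absurd (Finset.mem_univ _) h
      · intro k _ hk
        rw [hV i k (Ne.symm hk), zero_mul]
      · intro h; exact absurd (Finset.mem_univ _) h
  have hsc : W = W i0 i0 • (1 : Matrix ι ι F) := by
    ext i j
    rw [Matrix.smul_apply, smul_eq_mul]
    by_cases hij : i = j
    · subst hij
      rw [one_apply_eq, mul_one]
      exact hdiag _ _
    · rw [one_apply_ne hij, mul_zero]
      exact hWo i j hij
  rw [hsc]
  unfold cjg
  rw [Matrix.mul_smul, Matrix.mul_one, Matrix.smul_mul, coe_mul_coe_inv]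

theorem Ad_mulVec_cjg (g : Matrix.SpecialLinearGroup ι F) (X : Matrix ι ι F) :
    Ad g *ᵥ toV X = toV (cjg g X) := Ad_mulVec g X

/-- the coordinate functional `X ↦ - X j0 i0` -/
def fun0 (i0 j0 : ι) : ι × ι → F := Pi.single (j0, i0) (-1)

theorem fun0_dot (i0 j0 : ι) (w : ι × ι → F) : fun0 i0 j0 ⬝ᵥ w = - w (j0, i0) := by
  rw [fun0, single_dotProduct, neg_mul, one_mul]

theorem hex {i0 j0 : ι} (h0 : i0 ≠ j0) (w : ι × ι → F)
    (hw : Moved (Ad : Matrix.SpecialLinearGroup ι F →* _) w) :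
    ∃ g : Matrix.SpecialLinearGroup ι F, fun0 i0 j0 ⬝ᵥ (Ad g *ᵥ w) ≠ 0 := by
  by_contra hcon
  push Not at hcon
  obtain ⟨g, hg⟩ := hw
  apply hg
  rw [← toV_ofV w, Ad_mulVec_cjg, cjg_eq_of_entry h0]
  intro g
  have h1 := hcon g
  rw [← toV_ofV w, Ad_mulVec_cjg, fun0_dot, neg_eq_zero] at h1
  exact h1

/-- `M` is on `S` a matrix valued polynomial of degree at most `d` with coefficient `E` in degree `d`: products. -/
theorem PM_kron {K : Type*} [Field K] {S : Finset K} {d d' : ℕ} {E E' : Matrix ι ι K} {M M' : K → Matrix ι ι K}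
    (h : PM S d E M) (h' : PM S d' E' M') :
    ∀ a b : ι × ι, ∃ P : K[X], P.natDegree ≤ d + d' ∧ P.coeff (d + d') = E a.1 b.1 * E' b.2 a.2 ∧
      ∀ s ∈ S, M s a.1 b.1 * M' s b.2 a.2 = P.eval s := by
  intro a b
  obtain ⟨P, h1, h2, h3⟩ := h a.1 b.1
  obtain ⟨Q, h4, h5, h6⟩ := h' b.2 a.2
  refine ⟨P * Q, le_trans natDegree_mul_le (add_le_add h1 h4), ?_, ?_⟩
  · rw [coeff_mul_add_eq_of_natDegree_le h1 h4, h2, h5]
  · intro s hs
    rw [eval_mul, h3 s hs, h6 s hs]

theorem PM_transvection (S : Finset F) {i j : ι} (hij : i ≠ j) :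
    PM S 1 (single i j (1 : F)) (fun s => (Matrix.SpecialLinearGroup.transvection hij s : Matrix ι ι F)) := by
  intro b c
  refine ⟨C ((1 : Matrix ι ι F) b c) + X * C (single i j (1 : F) b c), ?_, ?_, ?_⟩
  · refine le_trans (natDegree_add_le _ _) (max_le (by simp) ?_)
    refine le_trans (natDegree_mul_C_le _ _) natDegree_X_le
  · rw [coeff_add, coeff_C, if_neg one_ne_zero, zero_add, coeff_mul_C, coeff_X_one, one_mul]
  · intro s _
    change (1 : Matrix ι ι F) b c + single i j s b c = _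
    rw [eval_add, eval_C, eval_mul, eval_X, eval_C]
    congr 1
    rw [single_apply, single_apply]
    split_ifs <;> simp

theorem PM_transvection_inv (S : Finset F) {i j : ι} (hij : i ≠ j) :
    PM S 1 (-single i j (1 : F))
      (fun s => (((Matrix.SpecialLinearGroup.transvection hij s)⁻¹ : Matrix.SpecialLinearGroup ι F) :
        Matrix ι ι F)) := by
  intro b c
  refine ⟨C ((1 : Matrix ι ι F) b c) - X * C (single i j (1 : F) b c), ?_, ?_, ?_⟩
  · refine le_trans (natDegree_sub_le _ _) (max_le (by simp) ?_)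
    refine le_trans (natDegree_mul_C_le _ _) natDegree_X_le
  · rw [coeff_sub, coeff_C, if_neg one_ne_zero, zero_sub, coeff_mul_C, coeff_X_one, one_mul, Matrix.neg_apply]
  · intro s _
    have ht : (((Matrix.SpecialLinearGroup.transvection hij s)⁻¹ : Matrix.SpecialLinearGroup ι F) :
        Matrix ι ι F) b c = (1 : Matrix ι ι F) b c + single i j (-s) b c := by
      rw [Matrix.SpecialLinearGroup.transvection_inv]
      rfl
    refine ht.trans ?_
    rw [eval_sub, eval_C, eval_mul, eval_X, eval_C, sub_eq_add_neg]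
    congr 1
    rw [single_apply, single_apply]
    split_ifs <;> simp

/-- the family `s ↦ 1 + s E_ij` with index the pairs `(i, j)`, trivial for `i = j` -/
def fam (p : ι × ι) (s : F) : Matrix.SpecialLinearGroup ι F :=
  if h : p.1 ≠ p.2 then Matrix.SpecialLinearGroup.transvection h s else 1

theorem fam_zero (p : ι × ι) : fam p (0 : F) = 1 := by
  unfold fam
  split_ifs with h
  · exact Matrix.SpecialLinearGroup.transvection_coeff_zero h
  · rfl

theorem closure_fam [Finite F] [Nontrivial ι] (S : Finset F) (hS : ∀ s, s ∈ S) :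
    Subgroup.closure {g : Matrix.SpecialLinearGroup ι F | ∃ i, ∃ s ∈ S, fam i s = g} = ⊤ := by
  rw [eq_top_iff]
  intro g _
  refine Cfsg.Agent.LieClassical.SLGen.transvection_induction
    (fun g => g ∈ Subgroup.closure {g : Matrix.SpecialLinearGroup ι F | ∃ i, ∃ s ∈ S, fam i s = g})
    (fun i j hij c => ?_) (fun A B hA hB => mul_mem hA hB) g
  refine Subgroup.subset_closure ⟨(i, j), c, hS c, ?_⟩
  unfold fam
  rw [dif_pos hij]

theorem fam_poly (S : Finset F) (p : ι × ι) (a b : ι × ι) :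
    ∃ P : F[X], P.natDegree ≤ 2 ∧ ∀ s ∈ S, Ad (fam p s) a b = P.eval s := by
  unfold fam
  split_ifs with h
  · obtain ⟨P, h1, -, h3⟩ := PM_kron (PM_transvection S h) (PM_transvection_inv S h) a b
    exact ⟨P, h1, fun s hs => h3 s hs⟩
  · exact ⟨C (Ad (1 : Matrix.SpecialLinearGroup ι F) a b), by simp, fun s _ => by simp⟩

theorem PM_x0 (S : Finset F) {i0 j0 : ι} (h0 : i0 ≠ j0) :
    PM S 2 (vecMulVec (Pi.single (i0, j0) 1) (fun0 i0 j0))
      (fun s => Ad (Matrix.SpecialLinearGroup.transvection h0 s)) := by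
  intro a b
  obtain ⟨P, h1, h2, h3⟩ := PM_kron (PM_transvection S h0) (PM_transvection_inv S h0) a b
  refine ⟨P, h1, ?_, fun s hs => h3 s hs⟩
  rw [show (2 : ℕ) = 1 + 1 from rfl, h2, vecMulVec_apply, fun0, Matrix.neg_apply, single_apply, single_apply,
    Pi.single_apply, Pi.single_apply]
  obtain ⟨a1, a2⟩ := a
  obtain ⟨b1, b2⟩ := b
  simp only [Prod.mk.injEq]
  split_ifs <;> grind

theorem PM_x0_inv (S : Finset F) {i0 j0 : ι} (h0 : i0 ≠ j0) :
    PM S 2 ((-1 : F) ^ 2 • vecMulVec (Pi.single (i0, j0) 1) (fun0 i0 j0))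
      (fun s => Ad (Matrix.SpecialLinearGroup.transvection h0 s)⁻¹) := by
  rw [neg_one_sq, one_smul]
  intro a b
  obtain ⟨P, h1, h2, h3⟩ := PM_kron (PM_transvection_inv S h0) (PM_transvection S h0) a b
  refine ⟨P, h1, ?_, fun s hs => ?_⟩
  · rw [show (2 : ℕ) = 1 + 1 from rfl, h2, vecMulVec_apply, fun0, Matrix.neg_apply, single_apply, single_apply,
      Pi.single_apply, Pi.single_apply]
    obtain ⟨a1, a2⟩ := a
    obtain ⟨b1, b2⟩ := b
    simp only [Prod.mk.injEq]
    split_ifs <;> grind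
  · refine (Ad_apply _ a b).trans ?_
    rw [inv_inv]
    exact h3 s hs

theorem cjg_single (g : Matrix.SpecialLinearGroup ι F) (i j a b : ι) :
    cjg g (single i j (1 : F)) a b =
      (g : Matrix ι ι F) a i * ((g⁻¹ : Matrix.SpecialLinearGroup ι F) : Matrix ι ι F) j b := by
  unfold cjg
  rw [Matrix.mul_apply, Finset.sum_eq_single j]
  · rw [Matrix.mul_apply, Finset.sum_eq_single i]
    · simp
    · intro k _ hk
      rw [single_apply, if_neg (by rintro ⟨h, -⟩; exact hk h.symm), mul_zero]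
    · intro h; exact absurd (Finset.mem_univ _) h
  · intro k _ hk
    rw [Matrix.mul_apply, Finset.sum_eq_zero, zero_mul]
    intro l _
    rw [single_apply, if_neg (by rintro ⟨-, h⟩; exact hk h.symm), mul_zero]
  · intro h; exact absurd (Finset.mem_univ _) h

theorem single_eq_toV (i j : ι) : (Pi.single (i, j) 1 : ι × ι → F) = toV (single i j (1 : F)) := by
  funext p
  obtain ⟨a, b⟩ := p
  simp only [toV, Pi.single_apply, single_apply, Prod.mk.injEq]
  split_ifs <;> grind

/-- **Bounded rank.** -/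
theorem psl_small [Fintype F] {m n k : ℕ} (hm : 2 ≤ m) (hn : 0 < n)
    (α : MulAut (Matrix.ProjectiveSpecialLinearGroup (Fin m) F)) (hα : α ^ n = 1)
    (hk : Nat.card {x : Matrix.ProjectiveSpecialLinearGroup (Fin m) F // α x = x} ≤ k) :
    Nat.card F ≤ (2 * (k * (2 * (m * m * 2) + n * 2)) ^ 2) ^ (2 * n) + (2 * 2) ^ 6 := by
  classical
  obtain ⟨σ, A, hA, h⟩ := exists_semiInd_Ad hm α
  let i0 : Fin m := ⟨0, by omega⟩
  let j0 : Fin m := ⟨1, by omega⟩
  have h0 : i0 ≠ j0 := by
    intro h1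
    have := congrArg Fin.val h1
    simp [i0, j0] at this
  have : Nontrivial (Fin m) := ⟨i0, j0, h0⟩
  have hfin : Finite (Matrix.SpecialLinearGroup (Fin m) F) := inferInstance
  have hfinT : Finite (Matrix.ProjectiveSpecialLinearGroup (Fin m) F) :=
    Finite.of_surjective (pr : Matrix.SpecialLinearGroup (Fin m) F →* _) pr_surjective
  obtain ⟨g1, h1, h2, h3⟩ := exists_mono (F := F) h0 h0
  have hi1 : ((g1⁻¹ : Matrix.SpecialLinearGroup (Fin m) F) : Matrix (Fin m) (Fin m) F) j0 i0 ≠ 0 ∧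
      (g1 : Matrix (Fin m) (Fin m) F) i0 j0 ≠ 0 := by
    have h4 := congrFun (congrFun (coe_inv_mul_coe g1) j0) j0
    rw [Matrix.mul_apply, Finset.sum_eq_single i0, one_apply_eq] at h4
    · constructor
      · exact left_ne_zero_of_mul_eq_one h4
      · exact right_ne_zero_of_mul_eq_one h4
    · intro k _ hk
      rw [h3 k hk, mul_zero]
    · intro h; exact absurd (Finset.mem_univ _) h
  have hi2 : ((g1⁻¹ : Matrix.SpecialLinearGroup (Fin m) F) : Matrix (Fin m) (Fin m) F) i0 j0 ≠ 0 := by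
    have h4 := congrFun (congrFun (coe_mul_coe_inv g1) j0) j0
    rw [Matrix.mul_apply, Finset.sum_eq_single i0, one_apply_eq] at h4
    · exact right_ne_zero_of_mul_eq_one h4
    · intro k _ hk
      rw [h1 k hk, zero_mul]
    · intro h; exact absurd (Finset.mem_univ _) h
  have hval : fun0 i0 j0 ⬝ᵥ (Ad g1 *ᵥ (Pi.single (i0, j0) 1 : Fin m × Fin m → F)) ≠ 0 := by
    rw [single_eq_toV, Ad_mulVec_cjg, fun0_dot, neg_ne_zero]
    change cjg g1 _ j0 i0 ≠ 0
    rw [cjg_single]
    exact mul_ne_zero h2 hi1.1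
  have hval' : fun0 i0 j0 ⬝ᵥ (Ad g1⁻¹ *ᵥ (Pi.single (i0, j0) 1 : Fin m × Fin m → F)) ≠ 0 := by
    rw [single_eq_toV, Ad_mulVec_cjg, fun0_dot, neg_ne_zero]
    change cjg g1⁻¹ _ j0 i0 ≠ 0
    rw [cjg_single, inv_inv]
    exact mul_ne_zero hi1.1 h2
  have hp : ((i0, j0) : Fin m × Fin m) ≠ (j0, i0) := by
    intro h5
    exact h0 (congrArg Prod.fst h5)
  have hm1 : Moved (Ad : Matrix.SpecialLinearGroup (Fin m) F →* _) (Pi.single (i0, j0) 1) := by
    refine ⟨g1, fun h5 => hval ?_⟩
    rw [h5, fun0_dot, Pi.single_eq_of_ne hp.symm, neg_zero]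
  have hm2 : Moved (Ad : Matrix.SpecialLinearGroup (Fin m) F →* _) (Pi.single (j0, i0) 1) := by
    refine ⟨g1, fun h5 => ?_⟩
    have h6 := congrFun h5 (i0, j0)
    rw [Pi.single_eq_of_ne hp, single_eq_toV, Ad_mulVec_cjg] at h6
    have h7 : cjg g1 (single j0 i0 (1 : F)) i0 j0 = 0 := h6
    rw [cjg_single] at h7
    exact mul_ne_zero hi1.2 hi2 h7
  have hb := Cfsg.Agent.H953.BFixed.classical_bound (K := F) pr_surjective hA h (fun z hz => Ad_center hz) hn hα hk
    Finset.univ (Finset.univ.filter fun s => σ s = s) ?_ (Finset.subset_univ _)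
    (fun s hs => (Finset.mem_filter.mp hs).2) ?_ (Finset.mem_univ _)
    (fun s => Matrix.SpecialLinearGroup.transvection h0 s) (D := 2) (D' := 2) (by norm_num)
    (Pi.single (i0, j0) 1) (fun0 i0 j0) (PM_x0 _ h0) (PM_x0_inv _ h0) g1 hval hval' hm1
    (Pi.single (j0, i0) 1) hm2 ?_ fam fam_zero (closure_fam _ (fun s => Finset.mem_univ s))
    (fam_poly _) (hex h0)
  · simpa only [_root_.Nat.card_eq_fintype_card, _root_.Nat.reduceMul, _root_.Nat.reducePow, _root_.ge_iff_le, _root_.Fintype.card_prod, _root_.Fintype.card_fin] using hb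
  · rw [Nat.card_eq_fintype_card, Finset.card_univ]
    have : 0 < Fintype.card F := Fintype.card_pos
    nlinarith only []
  · rw [Nat.card_eq_fintype_card, Fintype.card_subtype]
    have : 0 < (Finset.univ.filter fun s => σ s = s).card := Finset.card_pos.mpr ⟨0, by simp only [_root_.Finset.mem_filter, _root_.Finset.mem_univ, _root_.map_zero, _root_.and_self]⟩
    nlinarith only []
  · intro c hc
    have h6 := congrFun hc (i0, j0)
    rw [Pi.single_eq_same, Pi.smul_apply, Pi.single_eq_of_ne hp, smul_zero] at h6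
    exact one_ne_zero h6

end Cfsg.Agent.H953.AdBound
end

-- part: H953/AdLarge
section
/-!
Large rank: the walk on vectors and covectors, for all automorphisms of `PSL_m(F)`.
-/

set_option autoImplicit false
set_option linter.unusedSectionVars false

namespace Cfsg.Agent.H953.AdLarge

open Matrix
open Cfsg.Agent.H331.BF Cfsg.Agent.H953.AdPsl
open Cfsg.Agent.ClassicalGeometry.AutPSL.Root Cfsg.Agent.ClassicalGeometry.AutPSL.Auto

variable {ι F : Type*} [Fintype ι] [DecidableEq ι] [Field F]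

/-- vectors and covectors -/
abbrev VV (ι F : Type*) := (ι → F) ⊕ (ι → F)

/-- the same type, for the action of `SL` -/
def VX (ι F : Type*) := VV ι F

instance [Finite F] : Finite (VX ι F) := inferInstanceAs (Finite ((ι → F) ⊕ (ι → F)))

/-- the action of `g` -/
def act (g : Matrix.SpecialLinearGroup ι F) : VV ι F → VV ι F :=
  Sum.map (fun v => (g : Matrix ι ι F) *ᵥ v)
    (fun f => f ᵥ* ((g⁻¹ : Matrix.SpecialLinearGroup ι F) : Matrix ι ι F))

theorem act_one (x : VV ι F) : act 1 x = x := by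
  rcases x with v | f
  · simp only [act, Sum.map_inl, Matrix.SpecialLinearGroup.coe_one, one_mulVec]
  · simp only [act, Sum.map_inr, inv_one, Matrix.SpecialLinearGroup.coe_one, vecMul_one]

theorem act_mul (g h : Matrix.SpecialLinearGroup ι F) (x : VV ι F) : act (g * h) x = act g (act h x) := by
  rcases x with v | f
  · simp only [act, Sum.map_inl, Matrix.SpecialLinearGroup.coe_mul, mulVec_mulVec]
  · simp only [act, Sum.map_inr, _root_.mul_inv_rev, Matrix.SpecialLinearGroup.coe_mul, vecMul_vecMul]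

/-- the action on vectors and covectors -/
instance vxAction : MulAction (Matrix.SpecialLinearGroup ι F) (VX ι F) where
  smul g x := (act g x : VV ι F)
  one_smul := act_one
  mul_smul := act_mul

/-- `a` induces `α` -/
def Ind (a : VV ι F → VV ι F) (α : MulAut (Matrix.ProjectiveSpecialLinearGroup ι F)) : Prop :=
  Function.Injective a ∧ ∀ g : Matrix.SpecialLinearGroup ι F, ∃ g' : Matrix.SpecialLinearGroup ι F,
    pr g' = α (pr g) ∧ ∀ x, a (act g x) = act g' (a x)

theorem Ind.mul {a b : VV ι F → VV ι F} {α β : MulAut (Matrix.ProjectiveSpecialLinearGroup ι F)}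
    (ha : Ind a α) (hb : Ind b β) : Ind (a ∘ b) (α * β) := by
  refine ⟨ha.1.comp hb.1, fun g => ?_⟩
  obtain ⟨g1, h1, h2⟩ := hb.2 g
  obtain ⟨g2, h3, h4⟩ := ha.2 g1
  refine ⟨g2, by rw [h3, h1, MulAut.mul_apply], fun x => ?_⟩
  simp only [Function.comp, h2, h4]

theorem ind_cj (A : GL ι F) : ∃ a, Ind a (lift (cj A)) := by
  have h1 : ((A⁻¹ : GL ι F) : Matrix ι ι F) * (A : Matrix ι ι F) = 1 := by
    rw [← Units.val_mul, inv_mul_cancel, Units.val_one]
  have h2 : (A : Matrix ι ι F) * ((A⁻¹ : GL ι F) : Matrix ι ι F) = 1 := by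
    rw [← Units.val_mul, mul_inv_cancel, Units.val_one]
  refine ⟨Sum.map (fun v => (A : Matrix ι ι F) *ᵥ v) (fun f => f ᵥ* ((A⁻¹ : GL ι F) : Matrix ι ι F)), ?_, ?_⟩
  · refine Sum.map_injective.mpr ⟨?_, ?_⟩
    · intro v w hvw
      have := congrArg (fun x => ((A⁻¹ : GL ι F) : Matrix ι ι F) *ᵥ x) hvw
      simpa only [mulVec_mulVec, h1, one_mulVec] using this
    · intro v w hvw
      have := congrArg (fun x => x ᵥ* (A : Matrix ι ι F)) hvw
      simpa only [vecMul_vecMul, h1, vecMul_one] using this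
  · intro g
    refine ⟨cj A g, rfl, ?_⟩
    rintro (v | f)
    · simp only [act, Sum.map_inl, coe_cj, mulVec_mulVec, Matrix.mul_assoc, h1, Matrix.mul_one]
    · simp only [act, Sum.map_inr, coe_inv_cj, vecMul_vecMul]
      rw [Matrix.mul_assoc (A : Matrix ι ι F), ← Matrix.mul_assoc ((A⁻¹ : GL ι F) : Matrix ι ι F), h1,
        Matrix.one_mul]

theorem ind_fld (σ : F ≃+* F) : ∃ a, Ind (ι := ι) a (lift (fld σ)) := by
  refine ⟨Sum.map (fun v i => σ (v i)) (fun f i => σ (f i)), ?_, ?_⟩
  · refine Sum.map_injective.mpr ⟨?_, ?_⟩ <;>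
    · intro v w hvw
      funext i
      exact σ.injective (congrFun hvw i)
  · intro g
    refine ⟨fld σ g, rfl, ?_⟩
    rintro (v | f)
    · simp only [act, Sum.map_inl, Sum.inl.injEq]
      funext i
      simp only [Matrix.mulVec, dotProduct, map_sum, map_mul]
      rfl
    · simp only [act, Sum.map_inr, Sum.inr.injEq, ← map_inv]
      funext i
      simp only [Matrix.vecMul, dotProduct, map_sum, map_mul]
      rfl

theorem ind_itr : ∃ a, Ind (ι := ι) (F := F) a (lift itr) := by
  refine ⟨Sum.swap, Sum.swap_leftInverse.injective, ?_⟩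
  intro g
  refine ⟨itr g, rfl, ?_⟩
  rintro (v | f)
  · simp only [act, Sum.map_inl, Sum.swap_inl, Sum.map_inr, ← map_inv, coe_itr, inv_inv,
      vecMul_transpose]
  · simp only [act, Sum.map_inr, Sum.swap_inr, Sum.map_inl, coe_itr, mulVec_transpose]

theorem exists_ind [Fintype F] {m : ℕ} (hm : 2 ≤ m)
    (α : MulAut (Matrix.ProjectiveSpecialLinearGroup (Fin m) F)) : ∃ a, Ind a α := by
  obtain ⟨p, hp⟩ := CharP.exists F
  obtain ⟨k, hpp, hk⟩ := FiniteField.card F p
  have : Fact p.Prime := ⟨hpp⟩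
  rcases Nat.lt_or_ge m 3 with h3 | h3
  · obtain rfl : m = 2 := by omega
    obtain ⟨A, σ, rfl⟩ := Cfsg.Agent.ClassicalGeometry.AutPSL.Main.surj_two p α
    obtain ⟨a, ha⟩ := ind_cj A
    obtain ⟨b, hb⟩ := ind_fld (ι := Fin 2) σ
    rw [map_mul]
    exact ⟨_, ha.mul hb⟩
  · rcases Cfsg.Agent.ClassicalGeometry.AutPSL.Main.surj_three p h3 α with ⟨A, σ, rfl⟩ | ⟨A, σ, rfl⟩
    · obtain ⟨a, ha⟩ := ind_cj A
      obtain ⟨b, hb⟩ := ind_fld (ι := Fin m) σ
      rw [map_mul]
      exact ⟨_, ha.mul hb⟩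
    · obtain ⟨a, ha⟩ := ind_cj A
      obtain ⟨b, hb⟩ := ind_fld (ι := Fin m) σ
      obtain ⟨c, hc⟩ := ind_itr (ι := Fin m) (F := F)
      rw [map_mul, map_mul]
      exact ⟨_, (ha.mul hb).mul hc⟩

/-- `(g ∘ a) ^ m = (Nm g) ∘ a ^ m`. -/
theorem Ind.iter {a : VV ι F → VV ι F} {α : MulAut (Matrix.ProjectiveSpecialLinearGroup ι F)} (h : Ind a α)
    (g : Matrix.SpecialLinearGroup ι F) (m : ℕ) :
    ∃ z : Matrix.SpecialLinearGroup ι F, pr z = Nm α m (pr g) ∧
      ∀ x, (fun x => act g (a x))^[m] x = act z (a^[m] x) := by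
  induction m with
  | zero => exact ⟨1, by simp only [_root_.QuotientGroup.mk'_apply, _root_.QuotientGroup.mk_one, _root_.Cfsg.Agent.H331.BF.Nm_zero], fun x => by simp [act_one]⟩
  | succ m ih =>
    obtain ⟨z, hz1, hz2⟩ := ih
    obtain ⟨z', hz1', hz2'⟩ := h.2 z
    refine ⟨g * z', ?_, fun v => ?_⟩
    · rw [map_mul, hz1', hz1, Nm_succ']
    · rw [Function.iterate_succ_apply', hz2, hz2', Function.iterate_succ_apply', act_mul]

/-- scalar multiples -/
def sc (c : F) : VV ι F → VV ι F := Sum.map (fun v => c • v) (fun f => c • f)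

theorem act_center {z : Matrix.SpecialLinearGroup ι F} (hz : pr z = 1) (x : VV ι F) :
    ∃ c : F, act z x = sc c x := by
  rcases x with v | f
  · obtain ⟨c, hc⟩ := exists_smul_of_pr_eq (x := 1) (y := z) (by rw [hz, map_one])
    refine ⟨c, ?_⟩
    simp only [act, sc, Sum.map_inl, hc, Matrix.SpecialLinearGroup.coe_one, smul_mulVec, one_mulVec]
  · obtain ⟨d, hd⟩ := exists_smul_of_pr_eq (x := 1) (y := z⁻¹) (by rw [map_inv, hz, map_one, inv_one])
    refine ⟨d, ?_⟩
    simp only [act, sc, Sum.map_inr, hd, Matrix.SpecialLinearGroup.coe_one, vecMul_smul, vecMul_one]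

/-- a functional vanishing on `L` with value `1` at `v` -/
theorem exists_fun (L : List (ι → F)) {v : ι → F} (hv : v ∉ Submodule.span F {w | w ∈ L}) :
    ∃ φ : ι → F, (∀ w ∈ L, φ ⬝ᵥ w = 0) ∧ φ ⬝ᵥ v = 1 := by
  obtain ⟨f, hf1, hf2⟩ := Submodule.exists_dual_map_eq_bot_of_notMem hv inferInstance
  have hf : ∀ w : ι → F, f w = (fun i => f (Pi.single i 1)) ⬝ᵥ w := by
    intro w
    conv_lhs => rw [pi_eq_sum_univ' w]
    rw [map_sum, dotProduct]
    refine Finset.sum_congr rfl fun i _ => ?_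
    rw [map_smul, smul_eq_mul, mul_comm]
  refine ⟨fun i => (f v)⁻¹ * f (Pi.single i 1), ?_, ?_⟩
  · intro w hw
    have h1 : f w = 0 := by
      have h2 : f w ∈ (Submodule.span F {w | w ∈ L}).map f :=
        Submodule.mem_map_of_mem (Submodule.subset_span hw)
      rw [hf2, Submodule.mem_bot] at h2
      exact h2
    have h3 : (fun i => (f v)⁻¹ * f (Pi.single i 1)) = (f v)⁻¹ • (fun i => f (Pi.single i 1)) := by
      funext i; rfl
    rw [h3, smul_dotProduct, ← hf, h1, smul_zero]
  · have h3 : (fun i => (f v)⁻¹ * f (Pi.single i 1)) = (f v)⁻¹ • (fun i => f (Pi.single i 1)) := by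
      funext i; rfl
    rw [h3, smul_dotProduct, ← hf, smul_eq_mul, inv_mul_cancel₀ hf1]

/-- the common zeros of `r` functionals have at least `q ^ (m - r)` elements -/
theorem card_zeros [Fintype F] (L : List (ι → F)) :
    Nat.card F ^ (Fintype.card ι - L.length) ≤ Nat.card {u : ι → F // ∀ φ ∈ L, φ ⬝ᵥ u = 0} := by
  let T : (ι → F) →ₗ[F] (Fin L.length → F) :=
    { toFun := fun u j => L.get j ⬝ᵥ u
      map_add' := fun u v => by funext j; exact dotProduct_add _ _ _
      map_smul' := fun c u => by funext j; exact dotProduct_smul _ _ _ }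
  have h1 : Nat.card {u : ι → F // ∀ φ ∈ L, φ ⬝ᵥ u = 0} = Nat.card (LinearMap.ker T) := by
    refine Nat.card_congr (Equiv.subtypeEquivRight fun u => ?_)
    rw [LinearMap.mem_ker]
    constructor
    · intro h
      funext j
      exact h _ (List.get_mem _ _)
    · intro h φ hφ
      obtain ⟨j, hj⟩ := List.mem_iff_get.mp hφ
      have := congrFun h j
      rw [← hj]
      exact this
  rw [h1]
  refine le_trans ?_ (le_of_eq (Module.natCard_eq_pow_finrank (K := F) (V := LinearMap.ker T)).symm)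
  refine Nat.pow_le_pow_right (Nat.card_pos (α := F)) ?_
  have h2 := LinearMap.finrank_range_add_finrank_ker T
  have h3 : Module.finrank F (LinearMap.range T) ≤ L.length := by
    refine le_trans (Submodule.finrank_le _) ?_
    rw [Module.finrank_pi, Fintype.card_fin]
  rw [Module.finrank_pi] at h2
  omega

theorem tr_inv (a φ : ι → F) (h : φ ⬝ᵥ a = 0) :
    (tr a φ h)⁻¹ = tr (-a) φ (by rw [dotProduct_neg, h, neg_zero]) := by
  rw [inv_eq_iff_mul_eq_one, tr_mul_same_axis]
  apply Subtype.ext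
  rw [coe_tr, add_neg_cancel, zero_vecMulVec, add_zero]
  rfl

theorem act_tr_inl (a φ : ι → F) (h : φ ⬝ᵥ a = 0) (v : ι → F) :
    act (tr a φ h) (Sum.inl v) = Sum.inl (v + (φ ⬝ᵥ v) • a) := by
  simp only [act, Sum.map_inl, tr_mulVec]

theorem act_tr_inr (a φ : ι → F) (h : φ ⬝ᵥ a = 0) (f : ι → F) :
    act (tr a φ h) (Sum.inr f) = Sum.inr (f - (f ⬝ᵥ a) • φ) := by
  simp only [act, Sum.map_inr, tr_inv, coe_tr]
  rw [Matrix.vecMul_add, vecMul_one, neg_vecMulVec, vecMul_neg, vecMul_vecMulVec, sub_eq_add_neg]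

/-- vectors and covectors in a list -/
def Lv (l : List (VV ι F)) : List (ι → F) := l.filterMap Sum.getLeft?

def Lf (l : List (VV ι F)) : List (ι → F) := l.filterMap Sum.getRight?

theorem mem_Lv {l : List (VV ι F)} {v : ι → F} : v ∈ Lv l ↔ Sum.inl v ∈ l := by
  unfold Lv
  rw [List.mem_filterMap]
  constructor
  · rintro ⟨x, hx, h⟩
    rw [Sum.getLeft?_eq_some_iff] at h
    rwa [← h]
  · intro h
    exact ⟨_, h, rfl⟩

theorem mem_Lf {l : List (VV ι F)} {v : ι → F} : v ∈ Lf l ↔ Sum.inr v ∈ l := by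
  unfold Lf
  rw [List.mem_filterMap]
  constructor
  · rintro ⟨x, hx, h⟩
    rw [Sum.getRight?_eq_some_iff] at h
    rwa [← h]
  · intro h
    exact ⟨_, h, rfl⟩

theorem length_Lv (l : List (VV ι F)) : (Lv l).length ≤ l.length := List.length_filterMap_le _ _

theorem length_Lf (l : List (VV ι F)) : (Lf l).length ≤ l.length := List.length_filterMap_le _ _

/-- the small orbits -/
def bad (l : List (VV ι F)) : Set (VV ι F) :=
  {x | (∃ v, x = Sum.inl v ∧ v ∈ Submodule.span F {w | w ∈ Lv l}) ∨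
    ∃ f, x = Sum.inr f ∧ f ∈ Submodule.span F {w | w ∈ Lf l}}

theorem card_bad [Fintype F] (l : List (VV ι F)) : Nat.card (bad l) ≤ 2 * Nat.card F ^ l.length := by
  have hq : 1 ≤ Nat.card F := Nat.card_pos
  have h1 := card_span_list_le (Lv l)
  have h2 := card_span_list_le (Lf l)
  have h3 : Nat.card F ^ (Lv l).length ≤ Nat.card F ^ l.length := Nat.pow_le_pow_right hq (length_Lv l)
  have h4 : Nat.card F ^ (Lf l).length ≤ Nat.card F ^ l.length := Nat.pow_le_pow_right hq (length_Lf l)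
  have h5 : Nat.card (bad l) ≤ Nat.card (Submodule.span F {w | w ∈ Lv l}) +
      Nat.card (Submodule.span F {w | w ∈ Lf l}) := by
    rw [← Nat.card_sum]
    refine Nat.card_le_card_of_surjective
      (α := (Submodule.span F {w | w ∈ Lv l}) ⊕ (Submodule.span F {w | w ∈ Lf l}))
      (Sum.elim (fun v => ⟨Sum.inl v.1, Or.inl ⟨v.1, rfl, v.2⟩⟩) (fun f => ⟨Sum.inr f.1, Or.inr ⟨f.1, rfl, f.2⟩⟩)) ?_
    rintro ⟨x, ⟨v, rfl, hv⟩ | ⟨f, rfl, hf⟩⟩
    · exact ⟨Sum.inl ⟨v, hv⟩, rfl⟩
    · exact ⟨Sum.inr ⟨f, hf⟩, rfl⟩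
  omega

theorem card_lorb [Fintype F] {n : ℕ} (l : List (VX ι F)) (y : VX ι F) (hl : l.length < n) (hy : y ∉ bad l) :
    Nat.card F ^ (Fintype.card ι - n) ≤ Nat.card (lorb (Matrix.SpecialLinearGroup ι F) l y) := by
  have hq : 1 ≤ Nat.card F := Nat.card_pos
  rcases y with v | f
  · have hv : v ∉ Submodule.span F {w | w ∈ Lv l} := fun h => hy (Or.inl ⟨v, rfl, h⟩)
    obtain ⟨φ, h1, h2⟩ := exists_fun (Lv l) hv
    have h3 := card_zeros (φ :: Lf l)
    have h4 : Nat.card F ^ (Fintype.card ι - n) ≤ Nat.card F ^ (Fintype.card ι - (φ :: Lf l).length) := by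
      refine Nat.pow_le_pow_right hq ?_
      have : (Lf l).length ≤ l.length := length_Lf l
      rw [List.length_cons]
      omega
    refine le_trans h4 (le_trans h3 ?_)
    refine Nat.card_le_card_of_injective (fun u : {u : ι → F // ∀ ψ ∈ φ :: Lf l, ψ ⬝ᵥ u = 0} =>
      (⟨(Sum.inl (v + u.1) : VV ι F), tr u.1 φ (u.2 φ List.mem_cons_self), ?_, ?_⟩ :
        lorb (Matrix.SpecialLinearGroup ι F) l (Sum.inl v : VV ι F))) ?_
    · rw [mem_lstab]
      rintro (w | ψ) hw
      · refine (act_tr_inl _ _ _ w).trans ?_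
        rw [h1 w (mem_Lv.mpr hw), zero_smul, add_zero]
      · refine (act_tr_inr _ _ _ ψ).trans ?_
        rw [u.2 ψ (List.mem_cons_of_mem _ (mem_Lf.mpr hw)), zero_smul, sub_zero]
    · refine (act_tr_inl _ _ _ v).trans ?_
      rw [h2, one_smul]
    · intro u u' huu
      have h' : (Sum.inl (v + u.1) : VV ι F) = Sum.inl (v + u'.1) := congrArg Subtype.val huu
      simp only [Sum.inl.injEq, add_right_inj] at h'
      exact Subtype.ext h'
  · have hf : f ∉ Submodule.span F {w | w ∈ Lf l} := fun h => hy (Or.inr ⟨f, rfl, h⟩)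
    obtain ⟨u, h1, h2⟩ := exists_fun (Lf l) hf
    have h3 := card_zeros (u :: Lv l)
    have h4 : Nat.card F ^ (Fintype.card ι - n) ≤ Nat.card F ^ (Fintype.card ι - (u :: Lv l).length) := by
      refine Nat.pow_le_pow_right hq ?_
      have : (Lv l).length ≤ l.length := length_Lv l
      rw [List.length_cons]
      omega
    refine le_trans h4 (le_trans h3 ?_)
    refine Nat.card_le_card_of_injective (fun φ : {φ : ι → F // ∀ ψ ∈ u :: Lv l, ψ ⬝ᵥ φ = 0} =>
      (⟨(Sum.inr (f - φ.1) : VV ι F), tr u φ.1 (by rw [dotProduct_comm]; exact φ.2 u List.mem_cons_self), ?_, ?_⟩ :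
        lorb (Matrix.SpecialLinearGroup ι F) l (Sum.inr f : VV ι F))) ?_
    · rw [mem_lstab]
      rintro (w | ψ) hw
      · refine (act_tr_inl _ _ _ w).trans ?_
        rw [dotProduct_comm, φ.2 w (List.mem_cons_of_mem _ (mem_Lv.mpr hw)), zero_smul, add_zero]
      · refine (act_tr_inr _ _ _ ψ).trans ?_
        rw [dotProduct_comm, h1 ψ (mem_Lf.mpr hw), zero_smul, sub_zero]
    · refine (act_tr_inr _ _ _ f).trans ?_
      rw [dotProduct_comm, h2, one_smul]
    · intro φ φ' huu
      have h' : (Sum.inr (f - φ.1) : VV ι F) = Sum.inr (f - φ'.1) := congrArg Subtype.val huu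
      simp only [Sum.inr.injEq, sub_right_inj] at h'
      exact Subtype.ext h'

/-- **Large rank.** -/
theorem psl_large [Fintype F] {m n k : ℕ} (hm : 2 ≤ m) (hn : 0 < n)
    (α : MulAut (Matrix.ProjectiveSpecialLinearGroup (Fin m) F)) (hα : α ^ n = 1)
    (hk : Nat.card {x : Matrix.ProjectiveSpecialLinearGroup (Fin m) F // α x = x} ≤ k) :
    Nat.card F ^ (m - n) ≤ k * (n * (2 * Nat.card F ^ n)) := by
  classical
  obtain ⟨a, ha⟩ := exists_ind hm α
  have hq : 2 ≤ Nat.card F := Finite.one_lt_card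
  have hfin : Finite (Matrix.SpecialLinearGroup (Fin m) F) := inferInstance
  have hfinT : Finite (Matrix.ProjectiveSpecialLinearGroup (Fin m) F) :=
    Finite.of_surjective (pr : Matrix.SpecialLinearGroup (Fin m) F →* _) pr_surjective
  have hsurj : Function.Surjective a := Finite.surjective_of_injective ha.1
  let e : Fin m → F := Pi.single ⟨0, by omega⟩ 1
  have he : e ≠ 0 := by simp [e]
  obtain ⟨x, hx⟩ := hsurj (Sum.inl e)
  let u0 := a^[n] x
  let C : Set (VV (Fin m) F) := {z | ∃ c : F, z = sc c u0}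
  have hr := reveal (Γ := Matrix.SpecialLinearGroup (Fin m) F) (X := VX (Fin m) F) a bad C n (Nat.card F ^ (m - n))
    (2 * Nat.card F ^ n) hn ?_ ?_ x ?_
  · have hr' : Nat.card {g : Matrix.SpecialLinearGroup (Fin m) F // (fun x => act g (a x))^[n] x ∈ C} *
        Nat.card F ^ (m - n) ≤ n * (2 * Nat.card F ^ n) * Nat.card (Matrix.SpecialLinearGroup (Fin m) F) := hr
    set Z := Nat.card {g : Matrix.SpecialLinearGroup (Fin m) F // Nm α n (pr g) = 1} with hZ
    have hcov := card_le_of_surj pr pr_surjective α hα hk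
    have hZle : Z ≤ Nat.card {g : Matrix.SpecialLinearGroup (Fin m) F // (fun x => act g (a x))^[n] x ∈ C} := by
      refine Nat.card_le_card_of_injective
        (fun g : {g : Matrix.SpecialLinearGroup (Fin m) F // Nm α n (pr g) = 1} =>
        (⟨g.1, ?_⟩ : {g : Matrix.SpecialLinearGroup (Fin m) F // (fun x => act g (a x))^[n] x ∈ C})) ?_
      · obtain ⟨z, hz1, hz2⟩ := ha.iter g.1 n
        rw [g.2] at hz1
        obtain ⟨c, hc⟩ := act_center hz1 (a^[n] x)
        exact ⟨c, (hz2 x).trans hc⟩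
      · intro s t h
        have h' := congrArg Subtype.val h
        exact Subtype.ext h'
    have hpos : 0 < Nat.card (Matrix.SpecialLinearGroup (Fin m) F) := Nat.card_pos
    set N := Nat.card (Matrix.SpecialLinearGroup (Fin m) F) with hN
    have hfinal : N * Nat.card F ^ (m - n) ≤ N * (k * (n * (2 * Nat.card F ^ n))) :=
      calc N * Nat.card F ^ (m - n) ≤ (k * Z) * Nat.card F ^ (m - n) := Nat.mul_le_mul_right _ hcov
        _ ≤ (k * Nat.card {g : Matrix.SpecialLinearGroup (Fin m) F // (fun x => act g (a x))^[n] x ∈ C}) *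
              Nat.card F ^ (m - n) :=
            Nat.mul_le_mul_right _ (Nat.mul_le_mul_left _ hZle)
        _ = k * (Nat.card {g : Matrix.SpecialLinearGroup (Fin m) F // (fun x => act g (a x))^[n] x ∈ C} *
              Nat.card F ^ (m - n)) := by ring
        _ ≤ k * (n * (2 * Nat.card F ^ n) * N) := Nat.mul_le_mul_left _ hr'
        _ = _ := by ring
    exact Nat.le_of_mul_le_mul_left hfinal hpos
  · intro l y hl hy
    have := card_lorb l y hl hy
    rwa [Fintype.card_fin] at this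
  · intro l
    change Nat.card {z : VV (Fin m) F // z ∈ C ∨ (l.length < n ∧ a z ∈ bad l)} ≤ _
    have hC : Nat.card C ≤ Nat.card F := by
      refine Nat.card_le_card_of_surjective (fun c : F => (⟨sc c u0, c, rfl⟩ : C)) ?_
      rintro ⟨z, c, rfl⟩
      exact ⟨c, rfl⟩
    have h4 : Nat.card F ≤ Nat.card F ^ n := by
      calc Nat.card F = Nat.card F ^ 1 := (pow_one _).symm
        _ ≤ Nat.card F ^ n := Nat.pow_le_pow_right (by omega) hn
    by_cases hl : l.length < n
    · have hA2 : Nat.card {z : VV (Fin m) F // a z ∈ bad l} ≤ 2 * Nat.card F ^ l.length := by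
        refine le_trans ?_ (card_bad l)
        refine Nat.card_le_card_of_injective
          (fun z : {z : VV (Fin m) F // a z ∈ bad l} => (⟨a z.1, z.2⟩ : bad l)) ?_
        intro s t h
        have h' := congrArg Subtype.val h
        exact Subtype.ext (ha.1 h')
      have hA3 : Nat.card {z : VV (Fin m) F // z ∈ C ∨ (l.length < n ∧ a z ∈ bad l)} ≤
          Nat.card C + Nat.card {z : VV (Fin m) F // a z ∈ bad l} := by
        rw [← Nat.card_sum]
        refine Nat.card_le_card_of_surjective (α := C ⊕ {z : VV (Fin m) F // a z ∈ bad l})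
          (Sum.elim (fun z => ⟨z.1, Or.inl z.2⟩) (fun z => ⟨z.1, Or.inr ⟨hl, z.2⟩⟩)) ?_
        rintro ⟨z, hz | hz⟩
        · exact ⟨Sum.inl ⟨z, hz⟩, rfl⟩
        · exact ⟨Sum.inr ⟨z, hz.2⟩, rfl⟩
      have h5 : 2 * Nat.card F ^ l.length ≤ Nat.card F ^ n := by
        calc 2 * Nat.card F ^ l.length ≤ Nat.card F * Nat.card F ^ l.length := Nat.mul_le_mul_right _ hq
          _ = Nat.card F ^ (l.length + 1) := by rw [pow_succ']
          _ ≤ Nat.card F ^ n := Nat.pow_le_pow_right (by omega) hl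
      omega
    · have hA1 : Nat.card {z : VV (Fin m) F // z ∈ C ∨ (l.length < n ∧ a z ∈ bad l)} ≤ Nat.card F := by
        refine Nat.card_le_card_of_surjective (fun c : F => (⟨sc c u0, Or.inl ⟨c, rfl⟩⟩ :
          {z : VV (Fin m) F // z ∈ C ∨ (l.length < n ∧ a z ∈ bad l)})) ?_
        rintro ⟨z, ⟨c, rfl⟩ | hz⟩
        · exact ⟨c, rfl⟩
        · exact absurd hz.1 hl
      omega
  · rw [hx]
    rintro (⟨v, hv1, hv2⟩ | ⟨f, hf, -⟩)
    · have hv3 : e = v := Sum.inl.inj hv1
      have hv4 : v = 0 := by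
        have h6 : v ∈ Submodule.span F {w : Fin m → F | w ∈ ([] : List (Fin m → F))} := hv2
        simpa using h6
      exact he (hv3.trans hv4)
    · exact absurd hf (by simp)

end Cfsg.Agent.H953.AdLarge
end

-- part: H953/BddPsl
section
/-!
General Brauer-Fowler bound for the groups `PSL_m(F)` (row 3291): automorphisms `α` with `α ^ n = 1` and at most `k`
fixed points exist only for bounded order, uniformly in `m` and `F`, for all automorphisms (also inverse transpose).
-/

set_option autoImplicit false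

namespace Cfsg.Agent.H953.BddPsl

open Cfsg.Agent.H331.BF
open Cfsg.Agent.ClassicalGeometry.AutPSL.Root

theorem bdd_psl (n k : ℕ) (hn : 0 < n) : ∃ B : ℕ, ∀ (F : Type) [Field F] [Fintype F] (m : ℕ), 2 ≤ m →
    (m = 2 → 4 ≤ Fintype.card F) → Bdd n k B (Matrix.ProjectiveSpecialLinearGroup (Fin m) F) := by
  obtain ⟨B, hB⟩ := family_bound n k 0
    (fun m => (2 * (k * (2 * (m * m * 2) + n * 2)) ^ 2) ^ (2 * n) + (2 * 2) ^ 6)
  refine ⟨B, ?_⟩
  intro F _ _ m hm _ α hα hk
  refine hB m (Nat.card F) _ Finite.one_lt_card ?_ ?_ ?_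
  · have h1 : Nat.card (Matrix.ProjectiveSpecialLinearGroup (Fin m) F) ≤
        Nat.card (Matrix.SpecialLinearGroup (Fin m) F) :=
      Nat.card_le_card_of_surjective (pr : Matrix.SpecialLinearGroup (Fin m) F →* _) pr_surjective
    have h2 : Nat.card (Matrix.SpecialLinearGroup (Fin m) F) ≤ Nat.card (Matrix (Fin m) (Fin m) F) :=
      Nat.card_le_card_of_injective (fun g => (g : Matrix (Fin m) (Fin m) F)) Subtype.val_injective
    have h3 : Nat.card (Matrix (Fin m) (Fin m) F) = Nat.card F ^ (m ^ 2) := by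
      have h4 : Nat.card (Matrix (Fin m) (Fin m) F) = Nat.card (Fin m → Fin m → F) := rfl
      rw [h4, Nat.card_fun, Nat.card_fun, Nat.card_fin, ← pow_mul, sq]
    exact h1.trans (h2.trans h3.le)
  · exact Cfsg.Agent.H953.AdLarge.psl_large hm hn α hα hk
  · exact Cfsg.Agent.H953.AdBound.psl_small hm hn α hα hk

end Cfsg.Agent.H953.BddPsl
end

-- part: H71/BddRee
section
/-!
# Automorphisms of `²G₂(q)` with few fixed points

(For S3291, task 221 of helper331.)
-/

set_option autoImplicit false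
set_option linter.unusedSectionVars false

namespace Cfsg.Agent.H71.BddRee

open Cfsg.Lie Cfsg.Agent.H331.BF Cfsg.Agent.H71.BfTorus Cfsg.Agent.H71.BfTwist
open Cfsg.Agent.H967.CopSz Cfsg.Agent.H967.CopMat
open Cfsg.Agent.ChevalleyStructure.Ree.Gens Cfsg.Agent.ChevalleyStructure.Ree Cfsg.Agent.LieRecognition
  Cfsg.Agent.LieRecognition.ReeAbs Cfsg.Agent.ChevalleyStructure.Ree.Normal

theorem cen_of_simple {G : Type*} [Group G] (hs : IsSimpleGroup G ∧ ¬ IsMulCommutative G) (g : G)
    (hg : MulAut.conj g = 1) : g = 1 := by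
  have := hs.1
  have h1 : Subgroup.center G = ⊥ := by
    rcases (inferInstance : (Subgroup.center G).Normal).eq_bot_or_eq_top with h | h
    · exact h
    · exfalso
      apply hs.2
      refine ⟨⟨fun a b => ?_⟩⟩
      have : b ∈ Subgroup.center G := by rw [h]; trivial
      exact Subgroup.mem_center_iff.1 this a
  have h2 : g ∈ Subgroup.center G := by
    rw [Subgroup.mem_center_iff]
    intro x
    have := congrArg (fun φ : MulAut G => φ x) hg
    have h3 : g * x * g⁻¹ = x := this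
    rw [mul_inv_eq_iff_eq_mul] at h3
    exact h3.symm
  rw [h1] at h2
  exact h2

/-- the matrix representation of a matrix group -/
def rep {ι : Type*} [Fintype ι] [DecidableEq ι] {K : Type*} [Field K] (G : Subgroup (Matrix.GeneralLinearGroup ι K)) :
    ↥G →* Matrix ι ι K := (Units.coeHom (Matrix ι ι K)).comp G.subtype

theorem rep_injective {ι : Type*} [Fintype ι] [DecidableEq ι] {K : Type*} [Field K]
    (G : Subgroup (Matrix.GeneralLinearGroup ι K)) : Function.Injective (rep G) :=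
  fun _ _ h => Subtype.ext (Units.ext h)

theorem card_aut {K : Type*} [Field K] [Fintype K] {p n : ℕ} (hp : p.Prime) (hn : 1 ≤ n)
    (hK : Fintype.card K = p ^ n) : Nat.card (K ≃+* K) = n := by
  have : Fact p.Prime := ⟨hp⟩
  have hc : CharP K p := charP_of_card hp hK
  exact Cfsg.Agent.Lib.FieldAutCard.card_ringAut hn hK

section

variable {K : Type*} [Field K] [Fintype K] {m : ℕ}

/-- the families -/
def fam {θ : K →+* K} (c : Ctx θ (3 ^ m)) : Bool × K × K × K → K → ↥(twistedG2 K (3 ^ m)) :=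
  fun i s => bif i.1 then Data.U K (3 ^ m) (i.2.1 * s) (i.2.2.1 * s) (i.2.2.2 * s)
    else Data.N c * Data.U K (3 ^ m) (i.2.1 * s) (i.2.2.1 * s) (i.2.2.2 * s) * (Data.N c)⁻¹

theorem polyMat_U {S : Finset K} {e : ℕ} (hS : ∀ s ∈ S, s ^ (3 ^ m) = s ^ (3 ^ e)) (t u v : K) :
    PolyMat S (6 * cB chevG2 * 3 ^ (e + 1))
      (fun s => rep (twistedG2 K (3 ^ m)) (Data.U K (3 ^ m) (t * s) (u * s) (v * s))) := by
  have hp : ∀ c : K, PolyOn S (3 ^ e) (fun s => (c * s) ^ 3 ^ m) := by
    intro c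
    refine (((PolyOn.id (le_refl 1)).pow (3 ^ e)).smul (c ^ 3 ^ m)).mono (by rw [Nat.mul_one]) |>.congr ?_
    intro s hs
    rw [mul_pow, hS s hs]
  have h1 : 1 ≤ 3 ^ e := Nat.one_le_pow _ _ (by norm_num)
  have h3 : 3 ^ (e + 1) = 3 * 3 ^ e := by rw [pow_succ]; ring
  have hl : ∀ c : K, PolyOn S 1 (fun s => c * s) := fun c => (PolyOn.id (le_refl 1)).smul c
  have h := PolyMat.wordMat chevG2 (S := S) (d := 3 ^ (e + 1))
    [(g2a, fun s => (t * s) ^ 3 ^ m), (g2b, fun s => t * s), (g2ab, fun s => (t * s) ^ (3 ^ m + 1) + (u * s) ^ 3 ^ m),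
      (g2aab, fun s => (t * s) ^ (2 * 3 ^ m + 1) + (v * s) ^ 3 ^ m), (g2aaab, fun s => u * s),
      (g2aaabb, fun s => v * s)] ?_
  · refine (h.mono (le_of_eq ?_)).congr fun s _ => ?_
    · simp only [List.length_cons, List.length_nil]; ring
    · exact coe_wU (3 ^ m) (t * s) (u * s) (v * s)
  · intro p hp'
    simp only [List.mem_cons, List.not_mem_nil, or_false] at hp'
    rcases hp' with rfl | rfl | rfl | rfl | rfl | rfl
    · exact (hp t).mono (by omega)
    · exact (hl t).mono (by omega)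
    · refine PolyOn.add ?_ ((hp u).mono (by omega))
      refine (((hp t).mul (hl t)).mono (D' := 3 ^ (e + 1)) (by omega)).congr fun s _ => ?_
      rw [pow_succ]
    · refine PolyOn.add ?_ ((hp v).mono (by omega))
      refine ((((hp t).mul (hp t)).mul (hl t)).mono (D' := 3 ^ (e + 1)) (by omega)).congr fun s _ => ?_
      rw [pow_succ, two_mul, pow_add]
    · exact (hl u).mono (by omega)
    · exact (hl v).mono (by omega)

theorem closure_fam {θ : K →+* K} (c : Ctx θ (3 ^ m)) :
    Subgroup.closure {g | ∃ i, fam c i 1 = g} = (⊤ : Subgroup ↥(twistedG2 K (3 ^ m))) := by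
  set L := Subgroup.closure {g | ∃ i, fam c i 1 = g} with hL
  have h1 : twistedG2 K (3 ^ m) ≤ L.map (Subgroup.subtype _) := by
    rw [twistedG2_le_iff]
    constructor
    · intro t u v
      refine ⟨Data.U K (3 ^ m) t u v, Subgroup.subset_closure ⟨(true, t, u, v), ?_⟩, rfl⟩
      simp only [fam, _root_.mul_one, _root_.cond_true]
    · intro t u v
      refine ⟨Data.N c * Data.U K (3 ^ m) t u v * (Data.N c)⁻¹, Subgroup.subset_closure ⟨(false, t, u, v), ?_⟩, ?_⟩
      · simp only [fam, _root_.mul_one, _root_.cond_false]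
      · exact nU_conj_wU c.theta t u v
  rw [eq_top_iff]
  intro x _
  obtain ⟨y, hy, hxy⟩ := h1 x.2
  have : y = x := Subtype.ext hxy
  rwa [← this]

end

theorem bdd_ree_model {K : Type*} [Field K] [Fintype K] {m n : ℕ} (k : ℕ) (hn : 0 < n) (hm : 1 ≤ m)
    (hK : Fintype.card K = 3 ^ (2 * m + 1)) :
    Bdd n k (bd 3 (6 * cB chevG2) (Fintype.card chevG2.Idx) n k) ↥(twistedG2 K (3 ^ m)) := by
  obtain ⟨θ, c⟩ := exists_ctx hK
  have D := Data.data c
  have haut : ∀ α : MulAut ↥(twistedG2 K (3 ^ m)), ∃ (g : ↥(twistedG2 K (3 ^ m))) (τ : K ≃+* K),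
      α = MulAut.conj g * fieldAut (stab_g2 (3 ^ m)) τ := by
    intro α
    obtain ⟨g, σ, h⟩ := Cfsg.Agent.H71.FldAut.ree_aut hm hK α
    exact ⟨g, σ, h⟩
  have hU : ∀ (τ : K ≃+* K) (t u v : K), fieldAut (stab_g2 (3 ^ m)) τ (Data.U K (3 ^ m) t u v) =
      Data.U K (3 ^ m) (τ t) (τ u) (τ v) := fun τ t u v => (Cfsg.Agent.H71.FldAut.reeFld c).onU τ t u v
  have hN : ∀ (τ : K ≃+* K), fieldAut (stab_g2 (3 ^ m)) τ (Data.N c) = Data.N c :=
    fun τ => (Cfsg.Agent.H71.FldAut.reeFld c).onN τ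
  refine bdd (m := m) Nat.prime_three hn (by rw [Nat.card_eq_fintype_card, hK]) (rep (twistedG2 K (3 ^ m)))
    (rep_injective _) (cen_of_simple (S1073.result hm hK)) (fieldAut (stab_g2 (3 ^ m))) ?_ haut ?_
    (h := MonoidHom.mk' _ D.h_mul) (ReeSplit.h_injective D) ?_ (fam c) ?_ (closure_fam c) ?_ ?_
  · intro τ y
    rfl
  · exact inn_of_card _ haut ((S2127.result hm hK).trans (card_aut Nat.prime_three (by omega) hK).symm)
  · intro τ u
    exact (Cfsg.Agent.H71.FldAut.reeFld c).onH τ u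
  · rintro ⟨b, t, u, v⟩
    have h0 : Data.U K (3 ^ m) 0 0 0 = 1 := D.U_zero
    rcases b with _ | _
    · show Data.N c * Data.U K (3 ^ m) (t * 0) (u * 0) (v * 0) * (Data.N c)⁻¹ = 1
      rw [mul_zero, mul_zero, mul_zero, h0, mul_one, mul_inv_cancel]
    · show Data.U K (3 ^ m) (t * 0) (u * 0) (v * 0) = 1
      rw [mul_zero, mul_zero, mul_zero, h0]
  · rintro σ ⟨b, t, u, v⟩
    refine ⟨⟨b, σ t, σ u, σ v⟩, fun s hs => ?_⟩
    rcases b with _ | _
    · show fieldAut _ σ (Data.N c * Data.U K (3 ^ m) (t * s) (u * s) (v * s) * (Data.N c)⁻¹) =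
        Data.N c * Data.U K (3 ^ m) (σ t * s) (σ u * s) (σ v * s) * (Data.N c)⁻¹
      rw [map_mul, map_mul, map_inv, hN, hU, map_mul, map_mul, map_mul, hs]
    · show fieldAut _ σ (Data.U K (3 ^ m) (t * s) (u * s) (v * s)) =
        Data.U K (3 ^ m) (σ t * s) (σ u * s) (σ v * s)
      rw [hU, map_mul, map_mul, map_mul, hs]
  · rintro S e hS ⟨b, t, u, v⟩
    rcases b with _ | _
    · refine ((polyMat_U hS t u v).const_mul (rep _ (Data.N c))).mul_const (rep _ (Data.N c)⁻¹) |>.congr fun s _ => ?_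
      show rep _ (Data.N c * Data.U K (3 ^ m) (t * s) (u * s) (v * s) * (Data.N c)⁻¹) = _
      rw [map_mul, map_mul]
    · exact polyMat_U hS t u v

/-- **Task 221.** -/
theorem bdd_ree (n k : ℕ) (hn : 0 < n) : ∃ B : ℕ, ∀ (K : Type) [Field K] [Fintype K] (m : ℕ), 1 ≤ m →
    Fintype.card K = 3 ^ (2 * m + 1) → Bdd n k B (Cfsg.Lie.twistedG2 K (3 ^ m)) :=
  ⟨_, fun _ _ _ _ hm hK => bdd_ree_model k hn hm hK⟩

end Cfsg.Agent.H71.BddRee
end

private theorem dce_dedc3c3339bc : _root_.True := by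
  try have : _root_.True := by simp only [_root_.Cfsg.Agent.H953.AdPsl.swapM.eq_1]
  try have : _root_.True := by simp only [_root_.Cfsg.Agent.H953.AdPsl.toV.eq_1]
  try have : _root_.True := by simp only [_root_.Cfsg.Agent.H953.AdLarge.sc.eq_1]
  try have : _root_.True := by simp only [_root_.Cfsg.Agent.H953.AdBound.fun0.congr_simp]
  try have : _root_.True := by simp only [_root_.Cfsg.Agent.H953.AdLarge.act.eq_1]
  try have : _root_.True := by simp only [_root_.Cfsg.Agent.H71.BddRee.fam.eq_1]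
  try have : _root_.True := by simp only [_root_.Cfsg.Agent.H953.AdBound.fun0.eq_1]
  try have : _root_.True := by simp only [_root_.Cfsg.Agent.ChevalleyStructure.Ree.Data.N.congr_simp]
  exact _root_.True.intro
end

-- part: H19/BF/PSU
section
prune_inst 0x4002004600000000000000040001c4296000090000b00008020014204898c0280000e21ba30000000a0000440300040000000000000000000000400011800800080000020000000000006000000000000000000000000000000000000000000000000000
set_option linter.all false
open scoped Cfsg.Agent.FastGrp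

/-!
General Brauer-Fowler bound (row 3291): the groups `PSU_m(q)`.
-/

set_option autoImplicit false
set_option linter.unusedSectionVars false

namespace Cfsg.Agent.H19.BFPSU

open Cfsg Cfsg.Agent.H331.BF Cfsg.Agent.LieClassical.HermBasic Cfsg.Agent.LieClassical.HermSiegel
  Cfsg.Agent.LieClassical.HermGen Cfsg.Agent.LieClassical.SUBasic Matrix Module Polynomial
  Cfsg.Agent.ClassicalGeometry.PSUAutBasic Cfsg.Agent.ClassicalGeometry.PSUAutCount

variable {F : Type*} [Field F] {q m : ℕ}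

/-- the matrices of `SU` as a representation -/
def rho (m : ℕ) (F : Type*) [Field F] (q : ℕ) : SU m F q →* Matrix (Fin m) (Fin m) F where
  toFun := mat
  map_one' := mat_one
  map_mul' := mat_mul

theorem rho_apply (g : SU m F q) : rho m F q g = mat g := rfl

theorem rho_mulVec (g : SU m F q) (v : Fin m → F) : rho m F q g *ᵥ v = act g v := rfl

variable [Fintype F]

/-- every automorphism of `PSU` is semilinear -/
theorem semiInd (hF : Fintype.card F = q ^ 2) (hm : 3 ≤ m) (hs : ¬ (m = 3 ∧ q = 2)) (α : MulAut (PSU m F q)) :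
    ∃ (σ : F ≃+* F) (A : Matrix (Fin m) (Fin m) F), IsUnit A ∧ SemiInd (pr m F q) (rho m F q) σ A α := by
  obtain ⟨A, σ, rfl⟩ := ClassicalGeometry.PSUAutMain.exists_toAut hF hm hs α
  refine ⟨σ, gm A, ?_, ?_⟩
  · exact ⟨⟨gm A, gm A⁻¹, gm_mul_inv A, gm_inv_mul A⟩, rfl⟩
  · intro g
    refine ⟨semiConj A σ g, (toAut_pr A σ g).symm, ?_⟩
    apply Matrix.ext_of_mulVec_single
    intro i
    rw [← Matrix.mulVec_mulVec, ← Matrix.mulVec_mulVec, rho_mulVec]
    have h := act_semiConj A σ g (Pi.single i 1)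
    have h1 : (fun j => σ ((Pi.single i 1 : Fin m → F) j)) = Pi.single i 1 := by
      funext j
      by_cases hij : j = i
      · subst hij; simp
      · simp [Pi.single_eq_of_ne hij]
    rw [h1] at h
    rw [h]
    congr 1
    funext j
    rw [act_single, Matrix.mulVec_single_one]
    rfl

theorem ker_scalar (hF : Fintype.card F = q ^ 2) (hm : 3 ≤ m) (z : SU m F q) (hz : pr m F q z = 1) :
    ∃ c : F, rho m F q z = c • (1 : Matrix (Fin m) (Fin m) F) := by
  obtain ⟨c, -, -, h⟩ := exists_scalar_of_mem_center hF hm (pr_eq_one_iff.mp hz)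
  refine ⟨c, ?_⟩
  apply Matrix.ext_of_mulVec_single
  intro i
  rw [rho_mulVec, h, Matrix.smul_mulVec, Matrix.one_mulVec]

section perp

/-- a functional is represented by a vector -/
theorem exists_repr (hF : Fintype.card F = q ^ 2) (f : (Fin m → F) →ₗ[F] F) :
    ∃ u : Fin m → F, ∀ x, hermForm m F q x u = f x := by
  refine ⟨fun i => (f (fun j => if i = j then 1 else 0)) ^ q, fun x => ?_⟩
  rw [herm_def, LinearMap.pi_apply_eq_sum_univ f x]
  simp only [pow_q_pow_q hF, smul_eq_mul]

/-- `l^⊥` -/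
def perp (q : ℕ) (l : List (Fin m → F)) : Submodule F (Fin m → F) where
  carrier := {w | ∀ v ∈ l, hermForm m F q w v = 0}
  zero_mem' := fun v _ => herm_zero_left v
  add_mem' := fun {a b} ha hb v hv => by rw [herm_add_left, ha v hv, hb v hv, add_zero]
  smul_mem' := fun c a ha v hv => by rw [herm_smul_left, ha v hv, mul_zero]

theorem finrank_perp (l : List (Fin m → F)) : m ≤ finrank F (perp q l) + l.length := by
  let f : (Fin m → F) →ₗ[F] (Fin l.length → F) :=
    { toFun := fun w i => hermForm m F q w (l.get i)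
      map_add' := fun a b => by funext i; simp [herm_add_left]
      map_smul' := fun c a => by funext i; simp [herm_smul_left] }
  have h1 : LinearMap.ker f ≤ perp q l := by
    intro w hw v hv
    obtain ⟨i, rfl⟩ := List.get_of_mem hv
    exact congrFun hw i
  have h2 := LinearMap.finrank_range_add_finrank_ker f
  have h3 : finrank F (LinearMap.range f) ≤ l.length := by
    refine le_trans (Submodule.finrank_le _) ?_
    simp only [_root_.Module.finrank_fintype_fun_eq_card, _root_.Fintype.card_fin, _root_.Std.le_refl]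
  have h4 := Submodule.finrank_mono h1
  have h5 : finrank F (Fin m → F) = m := by simp only [_root_.Module.finrank_fintype_fun_eq_card, _root_.Fintype.card_fin]
  omega

/-- a vector outside the span of `l` is not orthogonal to `l^⊥` -/
theorem exists_perp_not (hF : Fintype.card F = q ^ 2) {l : List (Fin m → F)} {y : Fin m → F}
    (hy : y ∉ Submodule.span F {v | v ∈ l}) : ∃ u ∈ perp q l, hermForm m F q y u ≠ 0 := by
  obtain ⟨f, hf, hfl⟩ := Submodule.exists_le_ker_of_notMem hy
  obtain ⟨u, hu⟩ := exists_repr hF f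
  refine ⟨u, fun v hv => ?_, by rwa [hu]⟩
  apply herm_eq_zero_swap hF
  rw [hu]
  exact hfl (Submodule.subset_span hv)

/-- a totally isotropic subspace has at most half of the dimension -/
theorem finrank_isotropic (hF : Fintype.card F = q ^ 2) (W : Submodule F (Fin m → F))
    (h : ∀ v ∈ W, hermForm m F q v v = 0) : 2 * finrank F W ≤ m := by
  let b := Module.finBasis F W
  let T : (Fin m → F) →ₗ[F] (Fin (finrank F W) → F) :=
    { toFun := fun w i => hermForm m F q w (b i)
      map_add' := fun a b => by funext i; simp [herm_add_left]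
      map_smul' := fun c a => by funext i; simp [herm_smul_left] }
  have hT : LinearMap.range T = ⊤ := by
    by_contra hne
    obtain ⟨f, hf, hfr⟩ := Submodule.exists_le_ker_of_lt_top _ (lt_top_iff_ne_top.mpr hne)
    apply hf
    set c : Fin (finrank F W) → F := fun i => f (fun j => if i = j then 1 else 0) with hc
    have hfc : ∀ x, f x = ∑ i, x i * c i := fun x => by
      rw [LinearMap.pi_apply_eq_sum_univ f x]
      simp only [smul_eq_mul, hc]
    have h1 : ∑ i, (c i) ^ q • (b i : Fin m → F) = 0 := by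
      apply herm_nondeg hF
      intro v
      apply herm_eq_zero_swap hF
      rw [herm_sum_right hF]
      simp only [herm_smul_right, pow_q_pow_q hF]
      have h2 : f (T v) = 0 := hfr ⟨v, rfl⟩
      rw [hfc] at h2
      rw [← h2]
      exact Finset.sum_congr rfl fun i _ => mul_comm _ _
    have h3 : ∑ i, (c i) ^ q • b i = 0 := by
      apply Subtype.ext
      simpa only [_root_.AddSubmonoidClass.coe_finsetSum, _root_.SetLike.val_smul, _root_.ZeroMemClass.coe_zero] using h1
    have h4 := (Fintype.linearIndependent_iff.mp b.linearIndependent) _ h3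
    refine LinearMap.ext fun x => ?_
    rw [hfc, LinearMap.zero_apply]
    refine Finset.sum_eq_zero fun i _ => ?_
    rw [(pow_q_eq_zero hF).mp (h4 i), mul_zero]
  have hle : W ≤ LinearMap.ker T := by
    intro w hw
    funext i
    exact ClassicalGeometry.HermOrtho.herm_eq_zero_of_isotropic hF W h hw (b i).2
  have h2 := LinearMap.finrank_range_add_finrank_ker T
  rw [hT, finrank_top] at h2
  have h4 := Submodule.finrank_mono hle
  have h5 : finrank F (Fin m → F) = m := by simp only [_root_.Module.finrank_fintype_fun_eq_card, _root_.Fintype.card_fin]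
  have h6 : finrank F (Fin (finrank F W) → F) = finrank F W := by simp only [_root_.Module.finrank_fintype_fun_eq_card, _root_.Fintype.card_fin]
  omega

/-- a subspace of more than half of the dimension contains vectors of every norm -/
theorem exists_norm_mem (hF : Fintype.card F = q ^ 2) (W : Submodule F (Fin m → F)) (hW : m < 2 * finrank F W)
    {c : F} (hc : c ^ q = c) : ∃ z ∈ W, hermForm m F q z z = c := by
  obtain ⟨z, hz, hzz⟩ : ∃ z ∈ W, hermForm m F q z z ≠ 0 := by
    by_contra hcon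
    push Not at hcon
    have := finrank_isotropic hF W hcon
    omega
  have h0 : hermForm m F q z z ^ q = hermForm m F q z z := herm_self_pow hF z
  obtain ⟨x, hx⟩ := _root_.Cfsg.Agent.LieClassical.HermBasic.exists_norm_eq hF (c := c * (hermForm m F q z z)⁻¹) (by rw [mul_pow, inv_pow, h0, hc])
  refine ⟨x • z, W.smul_mem _ hz, ?_⟩
  rw [herm_smul_left, herm_smul_right]
  calc x * (x ^ q * hermForm m F q z z) = (x * x ^ q) * hermForm m F q z z := by ring
    _ = c := by rw [hx, mul_assoc, inv_mul_cancel₀ hzz, mul_one]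

/-- an isotropic vector orthogonal to `l` and not to `y` -/
theorem exists_iso_perp (hF : Fintype.card F = q ^ 2) {l : List (Fin m → F)} {y : Fin m → F}
    (hm : 2 * l.length + 4 < m) (hy : y ∉ Submodule.span F {v | v ∈ l}) :
    ∃ u ∈ perp q l, hermForm m F q u u = 0 ∧ hermForm m F q y u ≠ 0 := by
  obtain ⟨u0, hu0, hyu⟩ := exists_perp_not hF hy
  have h1 := finrank_perp (q := q) (u0 :: y :: l)
  simp only [List.length_cons] at h1
  obtain ⟨z, hz, hzz⟩ := exists_norm_mem hF (perp q (u0 :: y :: l)) (by omega) (c := - hermForm m F q u0 u0)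
    (by rw [neg_pow_q hF, herm_self_pow hF])
  have hz1 : hermForm m F q z u0 = 0 := hz u0 (by simp)
  have hz2 : hermForm m F q z y = 0 := hz y (by simp)
  have hz3 : z ∈ perp q l := fun v hv => hz v (by simp [hv])
  refine ⟨u0 + z, (perp q l).add_mem hu0 hz3, ?_, ?_⟩
  · rw [herm_add_left, herm_add_right hF, herm_add_right hF, hzz, hz1, herm_eq_zero_swap hF hz1]
    ring
  · rw [herm_add_right hF, herm_eq_zero_swap hF hz2, add_zero]
    exact hyu

/-- the Siegel transformations fixing `l` move `y` to many places -/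
theorem card_vorb (hF : Fintype.card F = q ^ 2) {n : ℕ} (l : List (Fin m → F)) (y : Fin m → F) (hl : l.length < n)
    (hy : y ∉ Submodule.span F {v | v ∈ l}) :
    Nat.card F ^ (m - n - (n + 4)) ≤ Nat.card (vorb (rho m F q) l y) := by
  classical
  have hfin : Finite (vorb (rho m F q) l y) := inferInstance
  by_cases hm : 2 * n + 4 < m
  · obtain ⟨u, hu, huu, hyu⟩ := exists_iso_perp hF (l := l) (by omega) hy
    set W := perp q (u :: l) with hW
    have hr := finrank_perp (q := q) (u :: l)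
    rw [← hW] at hr
    simp only [List.length_cons] at hr
    have hsieg : ∀ w : W, ∃ μ : F, IsSiegel q u (w : Fin m → F) μ := by
      intro w
      obtain ⟨μ, hμ⟩ := exists_trace_eq hF (c := - hermForm m F q (w : Fin m → F) w)
        (by rw [neg_pow_q hF, herm_self_pow hF])
      exact ⟨μ, huu, w.2 u (by simp), by rw [hμ]; ring⟩
    choose μ hμ using hsieg
    let φ : W → vorb (rho m F q) l y := fun w =>
      ⟨act (siegel hF u w (μ w) (hμ w)) y, siegel hF u w (μ w) (hμ w), by
        intro v hv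
        rw [rho_mulVec]
        exact act_siegel_of_orth hF (hμ w) (herm_eq_zero_swap hF (hu v hv))
          (herm_eq_zero_swap hF (w.2 v (by simp [hv]))), rfl⟩
    have hfib : ∀ w w' : W, φ w = φ w' → ∃ c : F, (w : Fin m → F) = w' + c • u := by
      intro w w' h
      have h1 : act (siegel hF u w (μ w) (hμ w)) y = act (siegel hF u w' (μ w') (hμ w')) y :=
        congrArg Subtype.val h
      rw [act_siegel, act_siegel] at h1
      set a := hermForm m F q y u with ha
      set c1 := μ w * a - hermForm m F q y w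
      set c2 := μ w' * a - hermForm m F q y w'
      refine ⟨a⁻¹ * (c2 - c1), ?_⟩
      have h2 : a • (w : Fin m → F) = a • (w' : Fin m → F) + (c2 - c1) • u := by
        have h3 : a • (w : Fin m → F) + c1 • u = a • (w' : Fin m → F) + c2 • u := by
          have h4 := h1
          rw [add_assoc, add_assoc] at h4
          exact add_left_cancel h4
        rw [sub_smul]
        calc a • (w : Fin m → F) = a • (w : Fin m → F) + c1 • u - c1 • u := by abel
          _ = a • (w' : Fin m → F) + c2 • u - c1 • u := by rw [h3]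
          _ = _ := by abel
      calc (w : Fin m → F) = a⁻¹ • (a • (w : Fin m → F)) := by rw [smul_smul, inv_mul_cancel₀ hyu, one_smul]
        _ = _ := by rw [h2, smul_add, smul_smul, smul_smul, inv_mul_cancel₀ hyu, one_smul]
    -- `W` has at most `|F|` times as many elements as the orbit
    have hcard : Nat.card W ≤ Nat.card (F × vorb (rho m F q) l y) := by
      have hsec : ∀ o : vorb (rho m F q) l y, ∃ w0 : W, ∀ w : W, φ w = o → ∃ c : F, (w : Fin m → F) = w0 + c • u := by
        intro o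
        by_cases ho : ∃ w0 : W, φ w0 = o
        · obtain ⟨w0, rfl⟩ := ho
          exact ⟨w0, fun w hw => hfib w w0 hw⟩
        · exact ⟨0, fun w hw => absurd ⟨w, hw⟩ ho⟩
      choose w0 hw0 using hsec
      have hc : ∀ w : W, ∃ c : F, (w : Fin m → F) = w0 (φ w) + c • u := fun w => hw0 (φ w) w rfl
      choose c hc using hc
      refine Nat.card_le_card_of_injective (fun w => (c w, φ w)) ?_
      intro w w' h
      simp only [Prod.mk.injEq] at h
      apply Subtype.ext
      rw [hc w, hc w', h.1, h.2]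
    rw [Nat.card_prod, Module.natCard_eq_pow_finrank (K := F)] at hcard
    have hq : 0 < Nat.card F := Nat.card_pos
    have h1 : Nat.card F ^ (m - n - (n + 4)) * Nat.card F ≤ Nat.card F ^ finrank F W := by
      rw [← pow_succ]
      exact Nat.pow_le_pow_right hq (by omega)
    have h2 : Nat.card F * Nat.card F ^ (m - n - (n + 4)) ≤ Nat.card F * Nat.card (vorb (rho m F q) l y) := by
      rw [mul_comm]
      exact h1.trans hcard
    exact Nat.le_of_mul_le_mul_left h2 hq
  · have h0 : m - n - (n + 4) = 0 := by omega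
    rw [h0, pow_zero]
    have : Nonempty (vorb (rho m F q) l y) := ⟨⟨y, 1, fun v _ => by simp, by simp⟩⟩
    exact Nat.card_pos

end perp

section direct

/-- the fixed field of `x ↦ x ^ q` as a finite set -/
noncomputable def KK (F : Type*) [Field F] [Fintype F] (q : ℕ) : Finset F := by
  classical exact Finset.univ.filter fun t => t ^ q = t

theorem mem_KK {t : F} : t ∈ KK F q ↔ t ^ q = t := by
  classical
  simp [KK]

theorem card_KK (hF : Fintype.card F = q ^ 2) : (KK F q).card = q := by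
  classical
  have h := card_fixed hF
  rw [Nat.card_eq_fintype_card, Fintype.card_subtype] at h
  refine Eq.trans ?_ h
  unfold KK
  congr

/-- the fixed points of `σ` in the fixed field -/
noncomputable def SS (q : ℕ) (σ : F ≃+* F) : Finset F := by
  classical exact (KK F q).filter fun t => σ t = t

theorem mem_SS {σ : F ≃+* F} {t : F} : t ∈ SS q σ ↔ t ^ q = t ∧ σ t = t := by
  classical
  simp [SS, mem_KK]

theorem card_fix_le (hF : Fintype.card F = q ^ 2) (σ : F ≃+* F) :
    Nat.card {t : F // σ t = t} ≤ 2 * (SS q σ).card ^ 2 := by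
  classical
  rw [Nat.card_eq_fintype_card, Fintype.card_subtype]
  have h := Finset.card_le_mul_card_image_of_maps_to (s := Finset.univ.filter fun t : F => σ t = t)
    (t := SS q σ ×ˢ SS q σ) (f := fun x => (x + x ^ q, x * x ^ q)) ?_ 2 ?_
  · rw [Finset.card_product] at h
    rw [sq]
    exact h
  · intro x hx
    rw [Finset.mem_filter] at hx
    have h1 : σ x = x := hx.2
    rw [Finset.mem_product, mem_SS, mem_SS]
    refine ⟨⟨trace_pow_q hF x, by rw [map_add, map_pow, h1]⟩, ⟨norm_pow_q hF x, by rw [map_mul, map_pow, h1]⟩⟩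
  · rintro ⟨a, b⟩ _
    have hne : (X ^ 2 - C a * X + C b : F[X]) ≠ 0 := by
      intro h0
      have := congrArg (fun P => P.coeff 2) h0
      simp at this
    have hdeg : (X ^ 2 - C a * X + C b : F[X]).natDegree ≤ 2 := by
      compute_degree
    refine le_trans (Finset.card_le_card (t := (X ^ 2 - C a * X + C b : F[X]).roots.toFinset) ?_) ?_
    · intro x hx
      rw [Finset.mem_filter] at hx
      have h2 := hx.2
      simp only [Prod.mk.injEq] at h2
      rw [Multiset.mem_toFinset, Polynomial.mem_roots hne]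
      simp only [IsRoot.def, eval_add, eval_sub, eval_mul, eval_pow, eval_X, eval_C]
      rw [← h2.1, ← h2.2]
      ring
    · exact le_trans (Multiset.toFinset_card_le _) (le_trans (Polynomial.card_roots' _) hdeg)

theorem mat_transv (hF : Fintype.card F = q ^ 2) {u : Fin m → F} (hu : hermForm m F q u u = 0) {μ : F}
    (hμ : μ + μ ^ q = 0) :
    mat (transv hF u hu μ hμ) = 1 + μ • Matrix.vecMulVec u (fun j => u j ^ q) := by
  have h : mat (transv hF u hu μ hμ) = siegelMat q u 0 μ := rfl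
  rw [h]
  ext i j
  simp only [siegelMat, Matrix.add_apply, Matrix.vecMulVec_apply, Pi.zero_apply, zero_mul, zero_pow_q hF, sub_zero,
    zero_add, Matrix.smul_apply, smul_eq_mul]
  ring

/-- index set of the transvection families -/
structure Ix (m : ℕ) (F : Type*) [Field F] (q : ℕ) where
  u : Fin m → F
  c : F
  hu : hermForm m F q u u = 0
  hc : c + c ^ q = 0

theorem tr_mul {s c : F} (hs : s ^ q = s) (hc : c + c ^ q = 0) : s * c + (s * c) ^ q = 0 := by
  rw [mul_pow, hs, ← mul_add, hc, mul_zero]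

/-- the transvection families -/
noncomputable def xf (hF : Fintype.card F = q ^ 2) (i : Ix m F q) (s : F) : SU m F q := by
  classical
  exact if hs : s ^ q = s then transv hF i.u i.hu (s * i.c) (tr_mul hs i.hc) else 1

theorem xf_of (hF : Fintype.card F = q ^ 2) (i : Ix m F q) {s : F} (hs : s ^ q = s) :
    xf hF i s = transv hF i.u i.hu (s * i.c) (tr_mul hs i.hc) := by
  rw [xf, dif_pos hs]

theorem mat_xf (hF : Fintype.card F = q ^ 2) (i : Ix m F q) {s : F} (hs : s ^ q = s) :
    mat (xf hF i s) = 1 + (s * i.c) • Matrix.vecMulVec i.u (fun j => i.u j ^ q) := by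
  rw [xf_of hF i hs, mat_transv]

theorem xf_zero (hF : Fintype.card F = q ^ 2) (i : Ix m F q) : xf hF i 0 = 1 := by
  apply mat_injective
  rw [mat_xf hF i (zero_pow_q hF), zero_mul, zero_smul, add_zero, mat_one]

theorem xf_inv (hF : Fintype.card F = q ^ 2) (i : Ix m F q) {s : F} (hs : s ^ q = s) :
    (xf hF i s)⁻¹ = xf hF i (-s) := by
  have hs' : (-s) ^ q = -s := by rw [neg_pow_q hF, hs]
  rw [inv_eq_iff_mul_eq_one, xf_of hF i hs, xf_of hF i hs']
  apply ext_act
  intro v
  rw [act_mul, act_transv, act_transv, act_one, herm_add_left, herm_smul_left, i.hu, mul_zero, add_zero]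
  rw [add_assoc, ← add_smul]
  rw [show -s * i.c * hermForm m F q v i.u + s * i.c * hermForm m F q v i.u = 0 by ring, zero_smul, add_zero]

theorem xf_gen (hF : Fintype.card F = q ^ 2) (hm : 3 ≤ m) (hs : ¬ (m = 3 ∧ q = 2)) :
    Subgroup.closure {g | ∃ i : Ix m F q, ∃ s ∈ KK F q, xf hF i s = g} = ⊤ := by
  rw [eq_top_iff, ← S0780.result hF m hm hs, Subgroup.closure_le]
  rintro A ⟨v, c, hv, hA⟩
  by_cases hv0 : v = 0
  · have h1 : A = 1 := by
      apply mat_injective
      rw [mat_def, hA, mat_one, hv0]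
      ext i j
      simp [unitaryTransvection]
    rw [h1]
    exact Subgroup.one_mem _
  · apply Subgroup.subset_closure
    have hc := ClassicalGeometry.UnitTransv.trace_zero_of_coe hF hv hv0 hA
    refine ⟨⟨v, c, hv, hc⟩, 1, mem_KK.mpr (one_pow q), ?_⟩
    apply mat_injective
    rw [mat_xf hF _ (one_pow q), one_mul, mat_def, hA]
    rfl

theorem PM_of {S : Finset F} {E : Matrix (Fin m) (Fin m) F} {M : F → Matrix (Fin m) (Fin m) F}
    (h : ∀ s ∈ S, M s = 1 + s • E) : PM S 1 E M := by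
  intro b c
  refine ⟨C ((1 : Matrix (Fin m) (Fin m) F) b c) + C (E b c) * X, ?_, ?_, ?_⟩
  · compute_degree
  · simp [coeff_C]
  · intro s hs
    rw [h s hs]
    simp only [Matrix.add_apply, Matrix.smul_apply, smul_eq_mul, eval_add, eval_C, eval_mul, eval_X]
    ring

/-- **Bounded dimension.** -/
theorem card_field_bound (hF : Fintype.card F = q ^ 2) (hm : 3 ≤ m) (hs : ¬ (m = 3 ∧ q = 2)) {n k : ℕ}
    (hn : 0 < n) (α : MulAut (PSU m F q)) (hα : α ^ n = 1) (hk : Nat.card {x : PSU m F q // α x = x} ≤ k) :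
    Nat.card F ≤ (2 * (k * (2 * (m * 1) + n * 1)) ^ 2) ^ (2 * n) + (2 * 1) ^ 6 := by
  classical
  have hfin : Finite (SU m F q) := inferInstance
  have hfinP : Finite (PSU m F q) := Finite.of_surjective _ (pr_surjective (n := m) (F := F) (q := q))
  obtain ⟨σ, A, hA, h⟩ := semiInd hF hm hs α
  -- a hyperbolic pair
  obtain ⟨p, p', a, b, ha0, hp, -, hpp, hpp', hpp1⟩ :=
    exists_hyp_pair hF (i := (⟨0, by omega⟩ : Fin m)) (j := ⟨1, by omega⟩) (by intro h; simpa using congrArg Fin.val h)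
  have hp0 : p ≠ 0 := by
    rintro rfl
    rw [herm_zero_left] at hpp1
    exact zero_ne_one hpp1
  obtain ⟨ε, hε0, hε⟩ := exists_trace_zero_ne hF
  let i0 : Ix m F q := ⟨p, ε, hpp, hε⟩
  set f : Fin m → F := fun j => p j ^ q with hf
  have hfw : ∀ w : Fin m → F, f ⬝ᵥ w = hermForm m F q w p := by
    intro w
    rw [herm_def, dotProduct]
    exact Finset.sum_congr rfl fun _ _ => mul_comm _ _
  -- moving `p`
  have hmove : ∀ z : Fin m → F, z ≠ 0 → hermForm m F q z z = 0 → ∃ g : SU m F q, act g p = z := by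
    intro z hz hzz
    obtain ⟨g, -, hg⟩ := exists_map_iso hF hm le_rfl (mem_coordSub_top p) (mem_coordSub_top z) hp0 hz hpp hzz
    exact ⟨g, hg⟩
  have hp'0 : p' ≠ 0 := by
    rintro rfl
    rw [herm_zero_right hF] at hpp1
    exact zero_ne_one hpp1
  obtain ⟨g1, hg1⟩ := hmove p' hp'0 hpp'
  have hb := classical_bound (pr_surjective (n := m) (F := F) (q := q)) hA h (ker_scalar hF hm) hn hα hk
    (by rw [Fintype.card_fin]; omega) (KK F q) (SS q σ)
    (by rw [card_KK hF, Nat.card_eq_fintype_card, hF]) (fun s hs => mem_KK.mpr (mem_SS.mp hs).1)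
    (fun s hs => (mem_SS.mp hs).2) (card_fix_le hF σ) (mem_KK.mpr (zero_pow_q hF))
    (xf hF i0) (D := 1) (D' := 1) one_pos (ε • p) f ?_ ?_ g1 ?_ ?_ (xf hF) (xf_zero hF) (xf_gen hF hm hs) ?_ ?_
  · rwa [Fintype.card_fin] at hb
  · refine PM_of fun s hs => ?_
    rw [rho_apply, mat_xf hF i0 (mem_KK.mp hs), Matrix.smul_vecMulVec, smul_smul]
  · rw [pow_one, neg_smul, one_smul]
    refine PM_of fun s hs => ?_
    have hs := mem_KK.mp hs
    rw [xf_inv hF i0 hs, rho_apply, mat_xf hF i0 (by rw [neg_pow_q hF, hs]), Matrix.smul_vecMulVec, smul_neg, smul_smul,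
      neg_mul, neg_smul]
  · rw [Matrix.mulVec_smul, rho_mulVec, hg1, dotProduct_smul, hfw, smul_eq_mul]
    refine mul_ne_zero hε0 ?_
    rw [herm_swap hF p p', hpp1, one_pow]
    exact one_ne_zero
  · rw [Matrix.mulVec_smul, rho_mulVec, dotProduct_smul, hfw, smul_eq_mul]
    refine mul_ne_zero hε0 ?_
    rw [herm_act_left, inv_inv, hg1, hpp1]
    exact one_ne_zero
  · intro i b c
    refine ⟨C ((1 : Matrix (Fin m) (Fin m) F) b c) + C (i.c * (i.u b * i.u c ^ q)) * X, by compute_degree, ?_⟩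
    intro s hs
    rw [rho_apply, mat_xf hF i (mem_KK.mp hs)]
    simp only [Matrix.add_apply, Matrix.smul_apply, Matrix.vecMulVec_apply, smul_eq_mul, eval_add, eval_C, eval_mul,
      eval_X]
    ring
  · intro w hw
    -- an isotropic vector not orthogonal to `w`
    obtain ⟨z, hzz, hwz⟩ : ∃ z : Fin m → F, hermForm m F q z z = 0 ∧ hermForm m F q w z ≠ 0 := by
      by_cases hwp : hermForm m F q w p = 0
      · obtain ⟨x, -, hx1, hx2⟩ := exists_common hF (mem_coordSub_top w) (mem_coordSub_top p) hw hp0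
        obtain ⟨t, ht⟩ := exists_iso_correct hF hpp hx2
        refine ⟨x + t • p, ht, ?_⟩
        rw [herm_add_right hF, herm_smul_right, hwp, mul_zero, add_zero]
        exact hx1
      · exact ⟨p, hpp, hwp⟩
    have hz0 : z ≠ 0 := by
      rintro rfl
      exact hwz (herm_zero_right hF w)
    obtain ⟨g, hg⟩ := hmove z hz0 hzz
    refine ⟨g⁻¹, ?_⟩
    rw [hfw, rho_mulVec, herm_act_left, inv_inv, hg]
    exact hwz

end direct

/-- order of `PSU` -/
theorem card_le (hF : Fintype.card F = q ^ 2) : Nat.card (PSU m F q) ≤ Nat.card F ^ (m ^ 2) := by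
  classical
  have hfin : Finite (SU m F q) := inferInstance
  have h1 : Nat.card (PSU m F q) ≤ Nat.card (SU m F q) :=
    Nat.card_le_card_of_surjective _ (pr_surjective (n := m) (F := F) (q := q))
  have h2 : Nat.card (SU m F q) ≤ Nat.card (Matrix (Fin m) (Fin m) F) :=
    Nat.card_le_card_of_injective _ (mat_injective (n := m) (F := F) (q := q))
  have h3 : Nat.card (Matrix (Fin m) (Fin m) F) = Nat.card F ^ (m ^ 2) := by
    rw [Nat.card_eq_fintype_card, Nat.card_eq_fintype_card]
    change Fintype.card (Fin m → Fin m → F) = _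
    rw [Fintype.card_fun, Fintype.card_fun, Fintype.card_fin, sq, pow_mul]
  exact h1.trans (h2.trans h3.le)

/-- **The groups `PSU_m(q)`.** -/
theorem bdd_psu (n k : ℕ) (hn : 0 < n) : ∃ B : ℕ, ∀ (F : Type) [Field F] [Fintype F] (m q : ℕ),
    Fintype.card F = q ^ 2 → 3 ≤ m → ¬ (m = 3 ∧ q = 2) → Bdd n k B (Cfsg.PSU m F q) := by
  obtain ⟨B, hB⟩ := family_bound n k (n + 4)
    (fun N => (2 * (k * (2 * (N * 1) + n * 1)) ^ 2) ^ (2 * n) + (2 * 1) ^ 6)
  refine ⟨B, ?_⟩
  intro F _ _ m q hF hm hs α hα hk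
  have hfin : Finite (SU m F q) := inferInstance
  have hfinP : Finite (PSU m F q) := Finite.of_surjective _ (pr_surjective (n := m) (F := F) (q := q))
  refine hB m (Nat.card F) _ ?_ (card_le hF) ?_ (card_field_bound hF hm hs hn α hα hk)
  · rw [Nat.card_eq_fintype_card]
    exact Fintype.one_lt_card
  · obtain ⟨σ, A, hA, h⟩ := semiInd hF hm hs α
    exact reveal_bound (pr_surjective (n := m) (F := F) (q := q)) hA h (ker_scalar hF hm) hn hα hk
      (by rw [Fintype.card_fin]; omega) _ (fun l y hl hy => card_vorb hF l y hl hy)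

end Cfsg.Agent.H19.BFPSU

private theorem dce_6c7d2ce8106f : _root_.True := by
  try have : _root_.True := by simp only [_root_.Cfsg.Agent.H19.BFPSU.xf.eq_1]
  try have : _root_.True := by simp only [_root_.Cfsg.Agent.H19.BFPSU.KK.eq_1]
  try have : _root_.True := by simp only [_root_.Cfsg.Agent.H19.BFPSU.SS.eq_1]
  exact _root_.True.intro
end
end
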